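import Cfsg.Agent.Lib.Helper4.M22B.Sem3

/-!
# A merge sort written with recursors, and the test of distinctness by ranges of keys

The kernel keeps every intermediate term of a computation until the end of the declaration,
so the test that the keys of a class are distinct is cut into ranges of keys: each range is
one small theorem.  The functions are written with the recursors, which cost the kernel less
than the compiled structural recursions.
-/

set_option autoImplicit false

namespace Cfsg.Agent.Lib.Helper4.M22B

/-- `lo ≤ k < hi` -/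
def inR (lo hi k : ℕ) : Bool := Nat.ble lo k && Nat.blt k hi

theorem inR_iff (lo hi k : ℕ) : inR lo hi k = true ↔ lo ≤ k ∧ k < hi := by
  unfold inR
  rw [Bool.and_eq_true, Nat.ble_eq, Nat.blt_eq]

/-! ### merging -/

/-- insert `a`, then go on with `f` -/
noncomputable def mergeAuxR (a : ℕ) (f : List ℕ → List ℕ) (r : List ℕ) : List ℕ :=
  @List.rec ℕ (fun _ => List ℕ) (a :: f [])
    (fun b r' ih => bif Nat.ble a b then a :: f (b :: r') else b :: ih) r

theorem mergeAuxR_nil (a : ℕ) (f : List ℕ → List ℕ) : mergeAuxR a f [] = a :: f [] := rfl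

theorem mergeAuxR_cons (a : ℕ) (f : List ℕ → List ℕ) (b : ℕ) (r : List ℕ) :
    mergeAuxR a f (b :: r) = bif Nat.ble a b then a :: f (b :: r) else b :: mergeAuxR a f r := rfl

/-- merge two lists -/
noncomputable def mergeR (l : List ℕ) : List ℕ → List ℕ :=
  @List.rec ℕ (fun _ => List ℕ → List ℕ) (fun r => r) (fun a _ ih => mergeAuxR a ih) l

theorem mergeR_nil (r : List ℕ) : mergeR [] r = r := rfl

theorem mergeR_cons (a : ℕ) (l r : List ℕ) : mergeR (a :: l) r = mergeAuxR a (mergeR l) r := rfl

theorem mergeAuxR_perm (a : ℕ) (f : List ℕ → List ℕ) (l : List ℕ)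
    (hf : ∀ r, (f r).Perm (l ++ r)) (r : List ℕ) : (mergeAuxR a f r).Perm (a :: l ++ r) := by
  induction r with
  | nil => rw [mergeAuxR_nil]; exact List.Perm.cons a (hf [])
  | cons b r ih =>
    rw [mergeAuxR_cons]
    cases Nat.ble a b with
    | true => rw [cond_true]; exact List.Perm.cons a (hf (b :: r))
    | false =>
      rw [cond_false]
      refine (List.Perm.cons b ih).trans ?_
      show (b :: (a :: l ++ r)).Perm (a :: l ++ b :: r)
      exact (List.perm_middle (l₁ := a :: l) (l₂ := r) (a := b)).symm

theorem mergeR_perm (l : List ℕ) : ∀ r, (mergeR l r).Perm (l ++ r) := by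
  induction l with
  | nil => intro r; rw [mergeR_nil]; rfl
  | cons a l ih => intro r; rw [mergeR_cons]; exact mergeAuxR_perm a (mergeR l) l ih r

/-! ### one pass -/

/-- merge the lists two by two; the flag says that the list `p` is waiting -/
noncomputable def passAux (L : List (List ℕ)) : Bool → List ℕ → List (List ℕ) :=
  @List.rec (List ℕ) (fun _ => Bool → List ℕ → List (List ℕ))
    (fun b p => bif b then [p] else [])
    (fun a _ ih b p => bif b then mergeR p a :: ih false [] else ih true a) L

theorem passAux_nil (b : Bool) (p : List ℕ) : passAux [] b p = bif b then [p] else [] := rfl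

theorem passAux_cons (a : List ℕ) (L : List (List ℕ)) (b : Bool) (p : List ℕ) :
    passAux (a :: L) b p = bif b then mergeR p a :: passAux L false [] else passAux L true a :=
  rfl

theorem passAux_perm (L : List (List ℕ)) : ∀ (b : Bool) (p : List ℕ),
    (passAux L b p).flatten.Perm ((bif b then p else []) ++ L.flatten) := by
  induction L with
  | nil =>
    intro b p
    rw [passAux_nil]
    cases b <;> simp
  | cons a L ih =>
    intro b p
    rw [passAux_cons]
    cases b with
    | true =>
      rw [cond_true, cond_true, List.flatten_cons, List.flatten_cons, ← List.append_assoc]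
      refine List.Perm.append (mergeR_perm p a) ?_
      simpa using ih false []
    | false =>
      rw [cond_false, cond_false, List.flatten_cons, List.nil_append]
      simpa using ih true a

/-- the passes -/
noncomputable def iterR (n : ℕ) : List (List ℕ) → List (List ℕ) :=
  @Nat.rec (fun _ => List (List ℕ) → List (List ℕ)) (fun L => L)
    (fun _ ih L => ih (passAux L false [])) n

theorem iterR_zero (L : List (List ℕ)) : iterR 0 L = L := rfl

theorem iterR_succ (n : ℕ) (L : List (List ℕ)) :
    iterR (n + 1) L = iterR n (passAux L false []) := rfl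

theorem iterR_perm (n : ℕ) : ∀ L : List (List ℕ), (iterR n L).flatten.Perm L.flatten := by
  induction n with
  | zero => intro L; rw [iterR_zero]
  | succ n ih =>
    intro L
    rw [iterR_succ]
    refine (ih _).trans ?_
    simpa using passAux_perm L false []

/-! ### strictly increasing lists -/

/-- `a` is smaller than the first term, and the list increases strictly -/
noncomputable def incFrom (l : List ℕ) : ℕ → Bool :=
  @List.rec ℕ (fun _ => ℕ → Bool) (fun _ => true) (fun b _ ih a => Nat.blt a b && ih b) l

theorem incFrom_nil (a : ℕ) : incFrom [] a = true := rfl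

theorem incFrom_cons (b : ℕ) (l : List ℕ) (a : ℕ) :
    incFrom (b :: l) a = (Nat.blt a b && incFrom l b) := rfl

theorem incFrom_spec (l : List ℕ) : ∀ a, incFrom l a = true → (∀ x ∈ l, a < x) ∧ l.Nodup := by
  induction l with
  | nil => intro a _; simp
  | cons b l ih =>
    intro a h
    rw [incFrom_cons, Bool.and_eq_true, Nat.blt_eq] at h
    obtain ⟨h1, h2⟩ := ih b h.2
    refine ⟨?_, ?_⟩
    · intro x hx
      rcases List.mem_cons.1 hx with rfl | hx
      · exact h.1
      · exact h.1.trans (h1 x hx)
    · refine List.nodup_cons.2 ⟨fun hb => ?_, h2⟩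
      exact absurd (h1 b hb) (lt_irrefl b)

/-- at most one list, which increases strictly -/
noncomputable def incLL (L : List (List ℕ)) : Bool :=
  @List.rec (List ℕ) (fun _ => Bool) true
    (fun l t _ => @List.rec (List ℕ) (fun _ => Bool)
      (@List.rec ℕ (fun _ => Bool) true (fun a l' _ => incFrom l' a) l) (fun _ _ _ => false) t) L

theorem incLL_spec (L : List (List ℕ)) (h : incLL L = true) : L.flatten.Nodup := by
  match L, h with
  | [], _ => simp
  | [l], h =>
    rw [List.flatten_cons, List.flatten_nil, List.append_nil]
    match l, h with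
    | [], _ => simp
    | a :: l', h =>
      have h' : incFrom l' a = true := h
      obtain ⟨h1, h2⟩ := incFrom_spec l' a h'
      exact List.nodup_cons.2 ⟨fun ha => absurd (h1 a ha) (lt_irrefl a), h2⟩
  | _ :: _ :: _, h => exact absurd h (by show ¬ (false = true); simp)

theorem nodup_of_iterR (n : ℕ) (L : List (List ℕ)) (h : incLL (iterR n L) = true) :
    L.flatten.Nodup :=
  (iterR_perm n L).nodup_iff.1 (incLL_spec _ h)

/-! ### reading the keys of a range off the packed numbers -/

/-- the keys in the range, as lists of one term, in front of `tl` -/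
noncomputable def unpackFR (lo hi : ℕ) (m : ℕ) : ℕ → List (List ℕ) → List (List ℕ) :=
  @Nat.rec (fun _ => ℕ → List (List ℕ) → List (List ℕ)) (fun _ tl => tl)
    (fun _ ih K tl => bif Nat.ble K 1 then tl else
      bif inR lo hi (Nat.land K 33554431) then
        [Nat.land K 33554431] :: ih (Nat.shiftRight K 25) tl
      else ih (Nat.shiftRight K 25) tl) m

theorem unpackFR_zero (lo hi K : ℕ) (tl : List (List ℕ)) : unpackFR lo hi 0 K tl = tl := rfl

theorem unpackFR_succ (lo hi m K : ℕ) (tl : List (List ℕ)) :
    unpackFR lo hi (m + 1) K tl = bif Nat.ble K 1 then tl else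
      bif inR lo hi (Nat.land K 33554431) then
        [Nat.land K 33554431] :: unpackFR lo hi m (Nat.shiftRight K 25) tl
      else unpackFR lo hi m (Nat.shiftRight K 25) tl := rfl

theorem unpackFR_eq (lo hi : ℕ) (m : ℕ) : ∀ (K : ℕ) (tl : List (List ℕ)),
    unpackFR lo hi m K tl = (((unpackK m K).filter (inR lo hi)).map fun a => [a]) ++ tl := by
  induction m with
  | zero => intro K tl; rw [unpackFR_zero]; simp [unpackK]
  | succ m ih =>
    intro K tl
    rw [unpackFR_succ, unpackK]
    cases Nat.ble K 1 with
    | true => simp
    | false =>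
      rw [cond_false, cond_false, List.filter_cons]
      cases inR lo hi (Nat.land K 33554431) with
      | true => rw [cond_true, ih]; simp
      | false => rw [cond_false, ih]; simp

/-! ### the same, cutting the packed number into pieces of 256 keys first -/

/-- exactly `j` keys from the low end -/
def unpackN : ℕ → ℕ → List ℕ
  | 0, _ => []
  | j + 1, L => Nat.land L 33554431 :: unpackN j (Nat.shiftRight L 25)

theorem unpackK_split (j : ℕ) : ∀ (m K : ℕ), j ≤ m → 1 ≤ Nat.shiftRight K (25 * j) →
    unpackK m K = unpackN j (K % 2 ^ (25 * j)) ++ unpackK (m - j) (Nat.shiftRight K (25 * j)) := by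
  induction j with
  | zero => intro m K _ _; simp [unpackN]
  | succ j ih =>
    intro m K hm hK
    have hK' : K / 2 ^ (25 * (j + 1)) ≠ 0 := by
      have : Nat.shiftRight K (25 * (j + 1)) = K / 2 ^ (25 * (j + 1)) := Nat.shiftRight_eq_div_pow _ _
      omega
    have hpos : 0 < 2 ^ (25 * (j + 1)) := by positivity
    have hK2 : 2 ^ (25 * (j + 1)) ≤ K := by
      by_contra hlt
      exact hK' (Nat.div_eq_of_lt (by omega))
    have h2 : (2 : ℕ) ≤ 2 ^ (25 * (j + 1)) := by
      calc (2 : ℕ) = 2 ^ 1 := by norm_num
        _ ≤ 2 ^ (25 * (j + 1)) := Nat.pow_le_pow_right (by norm_num) (by omega)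
    have hble : Nat.ble K 1 = false := by
      rw [← Bool.not_eq_true, Nat.ble_eq]; omega
    obtain ⟨m', rfl⟩ : ∃ m', m = m' + 1 := ⟨m - 1, by omega⟩
    rw [unpackK, hble, cond_false, unpackN]
    have e1 : Nat.land (K % 2 ^ (25 * (j + 1))) 33554431 = Nat.land K 33554431 := by
      show (K % 2 ^ (25 * (j + 1))) &&& 33554431 = K &&& 33554431
      have : (33554431 : ℕ) = 2 ^ 25 - 1 := by norm_num
      rw [this, Nat.and_two_pow_sub_one_eq_mod, Nat.and_two_pow_sub_one_eq_mod]
      apply Nat.mod_mod_of_dvd
      exact pow_dvd_pow 2 (by omega)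
    have e2 : Nat.shiftRight (K % 2 ^ (25 * (j + 1))) 25 = (Nat.shiftRight K 25) % 2 ^ (25 * j) := by
      show (K % 2 ^ (25 * (j + 1))) >>> 25 = (K >>> 25) % 2 ^ (25 * j)
      rw [Nat.shiftRight_eq_div_pow, Nat.shiftRight_eq_div_pow]
      have : 2 ^ (25 * (j + 1)) = 2 ^ 25 * 2 ^ (25 * j) := by rw [← pow_add]; congr 1; ring
      rw [this, Nat.mod_mul_right_div_self]
    have e3 : Nat.shiftRight (Nat.shiftRight K 25) (25 * j) = Nat.shiftRight K (25 * (j + 1)) := by
      show (K >>> 25) >>> (25 * j) = K >>> (25 * (j + 1))
      rw [← Nat.shiftRight_add]; congr 1; ring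
    rw [e1, e2, List.cons_append]
    congr 1
    have := ih m' (Nat.shiftRight K 25) (by omega) (by rw [e3]; exact hK)
    rw [this, e3]
    congr 2
    omega

/-- exactly `j` keys in the range, as lists of one term, in front of `tl` -/
noncomputable def unpackNFR (lo hi : ℕ) (j : ℕ) : ℕ → List (List ℕ) → List (List ℕ) :=
  @Nat.rec (fun _ => ℕ → List (List ℕ) → List (List ℕ)) (fun _ tl => tl)
    (fun _ ih L tl =>
      bif inR lo hi (Nat.land L 33554431) then
        [Nat.land L 33554431] :: ih (Nat.shiftRight L 25) tl
      else ih (Nat.shiftRight L 25) tl) j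

theorem unpackNFR_zero (lo hi L : ℕ) (tl : List (List ℕ)) : unpackNFR lo hi 0 L tl = tl := rfl

theorem unpackNFR_succ (lo hi j L : ℕ) (tl : List (List ℕ)) :
    unpackNFR lo hi (j + 1) L tl =
      bif inR lo hi (Nat.land L 33554431) then
        [Nat.land L 33554431] :: unpackNFR lo hi j (Nat.shiftRight L 25) tl
      else unpackNFR lo hi j (Nat.shiftRight L 25) tl := rfl

theorem unpackNFR_eq (lo hi : ℕ) (j : ℕ) : ∀ (L : ℕ) (tl : List (List ℕ)),
    unpackNFR lo hi j L tl = (((unpackN j L).filter (inR lo hi)).map fun a => [a]) ++ tl := by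
  induction j with
  | zero => intro L tl; rw [unpackNFR_zero]; simp [unpackN]
  | succ j ih =>
    intro L tl
    rw [unpackNFR_succ, unpackN, List.filter_cons]
    cases inR lo hi (Nat.land L 33554431) with
    | true => rw [cond_true, ih]; simp
    | false => rw [cond_false, ih]; simp

/-- the keys in the range, cutting the packed number into pieces of 256 keys -/
noncomputable def unpackFR2 (lo hi : ℕ) (f : ℕ) : ℕ → ℕ → List (List ℕ) → List (List ℕ) :=
  @Nat.rec (fun _ => ℕ → ℕ → List (List ℕ) → List (List ℕ))
    (fun m K tl => unpackFR lo hi m K tl)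
    (fun _ ih m K tl =>
      bif Nat.ble 256 m && Nat.ble 1 (Nat.shiftRight K 6400) then
        unpackNFR lo hi 256 (K % 2 ^ 6400) (ih (m - 256) (Nat.shiftRight K 6400) tl)
      else unpackFR lo hi m K tl) f

theorem unpackFR2_zero (lo hi m K : ℕ) (tl : List (List ℕ)) :
    unpackFR2 lo hi 0 m K tl = unpackFR lo hi m K tl := rfl

theorem unpackFR2_succ (lo hi f m K : ℕ) (tl : List (List ℕ)) :
    unpackFR2 lo hi (f + 1) m K tl =
      bif Nat.ble 256 m && Nat.ble 1 (Nat.shiftRight K 6400) then
        unpackNFR lo hi 256 (K % 2 ^ 6400)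
          (unpackFR2 lo hi f (m - 256) (Nat.shiftRight K 6400) tl)
      else unpackFR lo hi m K tl := rfl

theorem unpackFR2_eq (lo hi : ℕ) (f : ℕ) : ∀ (m K : ℕ) (tl : List (List ℕ)),
    unpackFR2 lo hi f m K tl = (((unpackK m K).filter (inR lo hi)).map fun a => [a]) ++ tl := by
  induction f with
  | zero => intro m K tl; rw [unpackFR2_zero, unpackFR_eq]
  | succ f ih =>
    intro m K tl
    rw [unpackFR2_succ]
    cases h : (Nat.ble 256 m && Nat.ble 1 (Nat.shiftRight K 6400)) with
    | false => rw [cond_false, unpackFR_eq]
    | true =>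
      rw [cond_true, unpackNFR_eq, ih]
      rw [Bool.and_eq_true, Nat.ble_eq, Nat.ble_eq] at h
      have := unpackK_split 256 m K h.1 h.2
      have e : 25 * 256 = 6400 := by norm_num
      rw [e] at this
      rw [this, List.filter_append, List.map_append, List.append_assoc]

/-- the keys of a class in the range, as lists of one term, in front of `tl` -/
noncomputable def keyListFR (lo hi : ℕ) (rep : ℕ) (results : List (ℕ × List ℕ)) (m : ℕ)
    (tl : List (List ℕ)) : List (List ℕ) :=
  bif inR lo hi (key rep) then
    [key rep] :: results.foldr (fun r acc => unpackFR2 lo hi 200 m r.1 acc) tl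
  else results.foldr (fun r acc => unpackFR2 lo hi 200 m r.1 acc) tl

theorem foldr_unpackFR (lo hi m : ℕ) (results : List (ℕ × List ℕ)) (tl : List (List ℕ)) :
    results.foldr (fun r acc => unpackFR2 lo hi 200 m r.1 acc) tl =
      (((results.flatMap fun r => unpackK m r.1).filter (inR lo hi)).map fun a => [a]) ++ tl := by
  induction results with
  | nil => simp
  | cons r results ih =>
    rw [List.foldr_cons, ih, unpackFR2_eq, List.flatMap_cons, List.filter_append, List.map_append,
      List.append_assoc]

theorem keyListFR_eq (lo hi : ℕ) (rep : ℕ) (results : List (ℕ × List ℕ)) (m : ℕ)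
    (tl : List (List ℕ)) :
    keyListFR lo hi rep results m tl =
      (((keyList rep results m).filter (inR lo hi)).map fun a => [a]) ++ tl := by
  unfold keyListFR keyList
  rw [foldr_unpackFR, List.filter_cons]
  cases inR lo hi (key rep) with
  | true => simp
  | false => simp

theorem flatten_map_single (l : List ℕ) : (l.map fun a => [a]).flatten = l := by
  induction l with
  | nil => rfl
  | cons a l ih => rw [List.map_cons, List.flatten_cons, ih]; rfl

/-- the test for one range and one class -/
theorem nodup_range1 (lo hi rep : ℕ) (results : List (ℕ × List ℕ)) (m n : ℕ)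
    (h : incLL (iterR n (keyListFR lo hi rep results m [])) = true) :
    ((keyList rep results m).filter (inR lo hi)).Nodup := by
  have := nodup_of_iterR n _ h
  rwa [keyListFR_eq, List.append_nil, flatten_map_single] at this

/-- the test for one range and two classes -/
theorem nodup_range2 (lo hi rep rep' : ℕ) (results results' : List (ℕ × List ℕ)) (m n : ℕ)
    (h : incLL (iterR n (keyListFR lo hi rep results m (keyListFR lo hi rep' results' m []))) =
      true) :
    ((keyList rep results m ++ keyList rep' results' m).filter (inR lo hi)).Nodup := by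
  have := nodup_of_iterR n _ h
  rwa [keyListFR_eq, keyListFR_eq, List.append_nil, ← List.map_append, ← List.filter_append,
    flatten_map_single] at this

/-! ### putting the ranges together -/

/-- the keys of each range between two consecutive thresholds are distinct -/
def RangesOK (l : List ℕ) : List ℕ → Prop
  | a :: b :: T => (l.filter (inR a b)).Nodup ∧ RangesOK l (b :: T)
  | _ => True

theorem rangesOK_cons (l : List ℕ) (a b : ℕ) (T : List ℕ) :
    RangesOK l (a :: b :: T) ↔ (l.filter (inR a b)).Nodup ∧ RangesOK l (b :: T) := Iff.rfl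

theorem nodup_filter_of_rangesOK (l : List ℕ) : ∀ (T : List ℕ) (a : ℕ), RangesOK l (a :: T) →
    (l.filter (inR a ((a :: T).getLast (List.cons_ne_nil a T)))).Nodup := by
  intro T
  induction T with
  | nil =>
    intro a _
    have : l.filter (inR a a) = [] := by
      rw [List.filter_eq_nil_iff]
      intro k _ hk
      have := (inR_iff a a k).1 hk
      omega
    rw [List.getLast_singleton, this]
    exact List.nodup_nil
  | cons b T ih =>
    intro a h
    rw [rangesOK_cons] at h
    have h2 := ih b h.2
    rw [List.getLast_cons (List.cons_ne_nil b T)]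
    set z := (b :: T).getLast (List.cons_ne_nil b T) with hz
    rw [List.nodup_iff_count_le_one]
    intro x
    by_cases hx : inR a z x = true
    · have hx' := (inR_iff a z x).1 hx
      rw [List.count_filter hx]
      by_cases hxb : x < b
      · have h3 := List.nodup_iff_count_le_one.1 h.1 x
        rwa [List.count_filter ((inR_iff a b x).2 ⟨hx'.1, hxb⟩)] at h3
      · have h3 := List.nodup_iff_count_le_one.1 h2 x
        rwa [List.count_filter ((inR_iff b z x).2 ⟨by omega, hx'.2⟩)] at h3
    · rw [List.count_eq_zero_of_not_mem (fun hmem => hx (List.mem_filter.1 hmem).2)]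
      exact Nat.zero_le _

/-- the thresholds go from `0` to a bound of the keys -/
theorem nodup_of_rangesOK (l : List ℕ) (T : List ℕ) (z : ℕ) (hl : ∀ k ∈ l, k < z)
    (hT : (0 :: T).getLast (List.cons_ne_nil 0 T) = z) (h : RangesOK l (0 :: T)) : l.Nodup := by
  have h1 := nodup_filter_of_rangesOK l T 0 h
  rw [hT] at h1
  have : l.filter (inR 0 z) = l := by
    rw [List.filter_eq_self]
    intro k hk
    exact (inR_iff 0 z k).2 ⟨Nat.zero_le _, hl k hk⟩
  rwa [this] at h1

/-! ### the keys are below `2 ^ 25` -/

theorem unpackK_lt (m : ℕ) : ∀ K : ℕ, ∀ k ∈ unpackK m K, k < 33554432 := by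
  induction m with
  | zero => intro K k hk; simp [unpackK] at hk
  | succ m ih =>
    intro K k hk
    rw [unpackK] at hk
    cases h : Nat.ble K 1 with
    | true => rw [h, cond_true] at hk; simp at hk
    | false =>
      rw [h, cond_false] at hk
      rcases List.mem_cons.1 hk with rfl | hk
      · show K &&& 33554431 < 33554432
        have : (33554431 : ℕ) = 2 ^ 25 - 1 := by norm_num
        rw [this, Nat.and_two_pow_sub_one_eq_mod]
        exact Nat.mod_lt _ (by norm_num)
      · exact ih _ k hk

theorem keyList_lt (rep : ℕ) (results : List (ℕ × List ℕ)) (m : ℕ) :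
    ∀ k ∈ keyList rep results m, k < 33554432 := by
  intro k hk
  unfold keyList at hk
  rcases List.mem_cons.1 hk with rfl | hk
  · have := key_lt rep
    norm_num at this
    exact this
  · obtain ⟨r, _, hr⟩ := List.mem_flatMap.1 hk
    exact unpackK_lt m r.1 k hr

/-! ### the number of keys -/

/-- the packed number holds exactly `n` keys -/
noncomputable def lenIs (n : ℕ) : ℕ → Bool :=
  @Nat.rec (fun _ => ℕ → Bool) (fun K => Nat.ble K 1)
    (fun _ ih K => bif Nat.ble K 1 then false else ih (Nat.shiftRight K 25)) n

theorem lenIs_zero (K : ℕ) : lenIs 0 K = Nat.ble K 1 := rfl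

theorem lenIs_succ (n K : ℕ) :
    lenIs (n + 1) K = bif Nat.ble K 1 then false else lenIs n (Nat.shiftRight K 25) := rfl

theorem length_of_lenIs (n : ℕ) : ∀ (m K : ℕ), n ≤ m → lenIs n K = true →
    (unpackK m K).length = n := by
  induction n with
  | zero =>
    intro m K _ h
    rw [lenIs_zero] at h
    cases m with
    | zero => simp [unpackK]
    | succ m => rw [unpackK, h, cond_true]; rfl
  | succ n ih =>
    intro m K hm h
    rw [lenIs_succ] at h
    cases hK : Nat.ble K 1 with
    | true => rw [hK, cond_true] at h; exact absurd h (by simp)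
    | false =>
      rw [hK, cond_false] at h
      cases m with
      | zero => omega
      | succ m =>
        rw [unpackK, hK, cond_false, List.length_cons, ih m _ (by omega) h]

/-- the numbers of keys of the packed numbers of a class -/
noncomputable def lenAll : List ℕ → List (ℕ × List ℕ) → Bool
  | [], [] => true
  | n :: ns, r :: rs => lenIs n r.1 && lenAll ns rs
  | _, _ => false

theorem length_of_lenAll (m : ℕ) : ∀ (ns : List ℕ) (results : List (ℕ × List ℕ)),
    (∀ n ∈ ns, n ≤ m) → lenAll ns results = true →
    (results.flatMap fun r => unpackK m r.1).length = ns.sum := by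
  intro ns
  induction ns with
  | nil =>
    intro results _ h
    cases results with
    | nil => rfl
    | cons r rs => exact absurd h (by simp [lenAll])
  | cons n ns ih =>
    intro results hm h
    cases results with
    | nil => exact absurd h (by simp [lenAll])
    | cons r rs =>
      rw [lenAll, Bool.and_eq_true] at h
      rw [List.flatMap_cons, List.length_append, List.sum_cons,
        length_of_lenIs n m r.1 (hm n List.mem_cons_self) h.1,
        ih rs (fun k hk => hm k (List.mem_cons_of_mem _ hk)) h.2]

theorem keyList_length (rep : ℕ) (results : List (ℕ × List ℕ)) (m : ℕ) (ns : List ℕ)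
    (hm : ∀ n ∈ ns, n ≤ m) (h : lenAll ns results = true) :
    (keyList rep results m).length = ns.sum + 1 := by
  unfold keyList
  rw [List.length_cons, length_of_lenAll m ns results hm h]

end Cfsg.Agent.Lib.Helper4.M22B
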