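import Cfsg.Agent.Lib.Helper4.M22B.D11x0
import Cfsg.Agent.Lib.Helper4.M22B.D11x1

set_option autoImplicit false
set_option maxRecDepth 100000

namespace Cfsg.Agent.Lib.Helper4.M22B

/-- the chunks of class 11 -/
def chunks11 : List Chunk := [D11.ch0, D11.ch1, D11.ch2, D11.ch3]

/-- the scans of the chunks of class 11 -/
def results11 : List (ℕ × List ℕ) := [D11.res0, D11.res1, D11.res2, D11.res3]

theorem hres11 : chunks11.map (scanChunk rep11 R11) = results11 := by
  simp only [chunks11, results11, List.map_cons, List.map_nil, D11.h0, D11.h1, D11.h2, D11.h3]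

theorem hfuel11 : ∀ ch ∈ chunks11, ch.2.1 + 1 ≤ 30000 := by decide +kernel

end Cfsg.Agent.Lib.Helper4.M22B
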