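import Cfsg.Agent.Lib.Helper4.M22B.D10
import Cfsg.Agent.Lib.Helper4.M22B.D11
import Cfsg.Agent.Lib.Helper4.M22B.SortR

/-! # M22: the keys of the class list 1011 are distinct, ranges of keys (generated) -/

set_option autoImplicit false
set_option maxRecDepth 100000

namespace Cfsg.Agent.Lib.Helper4.M22B

theorem bkt1011_3 : incLL (iterR 18 (keyListFR 11571397 14715027 rep10 results10 30000
    (keyListFR 11571397 14715027 rep11 results11 30000 []))) = true := by
  decide +kernel

theorem bkt1011_4 : incLL (iterR 18 (keyListFR 14715027 17860756 rep10 results10 30000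
    (keyListFR 14715027 17860756 rep11 results11 30000 []))) = true := by
  decide +kernel

theorem bkt1011_5 : incLL (iterR 18 (keyListFR 17860756 21006515 rep10 results10 30000
    (keyListFR 17860756 21006515 rep11 results11 30000 []))) = true := by
  decide +kernel

end Cfsg.Agent.Lib.Helper4.M22B
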