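import Cfsg.Agent.Lib.Helper4.M22B.D4
import Cfsg.Agent.Lib.Helper4.M22B.SortR

/-! # M22: the keys of the class list 4 are distinct, ranges of keys (generated) -/

set_option autoImplicit false
set_option maxRecDepth 100000

namespace Cfsg.Agent.Lib.Helper4.M22B

theorem bkt4_0 : incLL (iterR 18 (keyListFR 0 7807091 rep4 results4 30000 [])) = true := by
  decide +kernel

theorem bkt4_1 : incLL (iterR 18 (keyListFR 7807091 15944113 rep4 results4 30000 [])) = true := by
  decide +kernel

theorem bkt4_2 : incLL (iterR 18 (keyListFR 15944113 33554432 rep4 results4 30000 [])) = true := by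
  decide +kernel

end Cfsg.Agent.Lib.Helper4.M22B
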