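import Cfsg.Agent.Lib.Helper4.M22B.D8x0
import Cfsg.Agent.Lib.Helper4.M22B.D8x1

set_option autoImplicit false
set_option maxRecDepth 100000

namespace Cfsg.Agent.Lib.Helper4.M22B

/-- the chunks of class 8 -/
def chunks8 : List Chunk := [D8.ch0, D8.ch1, D8.ch2, D8.ch3, D8.ch4, D8.ch5]

/-- the scans of the chunks of class 8 -/
def results8 : List (ℕ × List ℕ) := [D8.res0, D8.res1, D8.res2, D8.res3, D8.res4, D8.res5]

theorem hres8 : chunks8.map (scanChunk rep8 R8) = results8 := by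
  simp only [chunks8, results8, List.map_cons, List.map_nil, D8.h0, D8.h1, D8.h2, D8.h3, D8.h4, D8.h5]

theorem hfuel8 : ∀ ch ∈ chunks8, ch.2.1 + 1 ≤ 30000 := by decide +kernel

end Cfsg.Agent.Lib.Helper4.M22B
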