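import Cfsg.Agent.Lib.Helper4.M22B.D7
import Cfsg.Agent.Lib.Helper4.M22B.D8
import Cfsg.Agent.Lib.Helper4.M22B.SortR

/-! # M22: the keys of the class list 78 are distinct, ranges of keys (generated) -/

set_option autoImplicit false
set_option maxRecDepth 100000

namespace Cfsg.Agent.Lib.Helper4.M22B

theorem bkt78_9 : incLL (iterR 18 (keyListFR 19957900 22055177 rep7 results7 30000
    (keyListFR 19957900 22055177 rep8 results8 30000 []))) = true := by
  decide +kernel

theorem bkt78_10 : incLL (iterR 18 (keyListFR 22055177 33554432 rep7 results7 30000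
    (keyListFR 22055177 33554432 rep8 results8 30000 []))) = true := by
  decide +kernel

end Cfsg.Agent.Lib.Helper4.M22B
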