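import Cfsg.Agent.Lib.Helper4.M22B.Code

/-!
# M22: class certificates on codes (keys and tallies)
-/

set_option autoImplicit false

namespace Cfsg.Agent.Lib.Helper4.M22B

open Cfsg.Agent.Lib.Helper1.PermCode Cfsg.Agent.Lib.Helper1.MatCode

/-- the tally step: one counter (base `2 ^ 17` digits indexed by the type) for each `ρ` in `R` -/
def tStep (R : List ℕ) (y : ℕ) (acc : List ℕ) : List ℕ :=
  List.zipWith (fun ρ a => Nat.add a (Nat.shiftLeft 1 (Nat.mul 17 (clsC (pmu2 y ρ))))) R acc

/-- keys and tallies together -/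
def stepKT (R : List ℕ) (y : ℕ) (a : ℕ × List ℕ) : ℕ × List ℕ := (stepK y a.1, tStep R y a.2)

/-- a chunk: the word to the starting node, the number of tokens, the packed tokens -/
abbrev Chunk : Type := List ℕ × ℕ × ℕ

/-- the list of codes emitted by a chunk -/
def expandChunk (rep : ℕ) (ch : Chunk) : List ℕ := expand ch.2.1 ch.2.2 (walk ch.1 [rep])

/-- the scan of a chunk -/
def scanChunk (rep : ℕ) (R : List ℕ) (ch : Chunk) : ℕ × List ℕ :=
  scan (stepKT R) ch.2.1 ch.2.2 (walk ch.1 [rep]) (1, R.map fun _ => 0)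

/-- the list of codes of a class -/
def DL (rep : ℕ) (chunks : List Chunk) : List ℕ := rep :: chunks.flatMap (expandChunk rep)

/-- the tally of a list of codes against `ρ` -/
def encT (ρ : ℕ) (l : List ℕ) : ℕ := (l.map fun y => 2 ^ (17 * clsC (pmu2 y ρ))).sum

theorem encT_nil (ρ : ℕ) : encT ρ [] = 0 := rfl

theorem encT_cons (ρ y : ℕ) (l : List ℕ) :
    encT ρ (y :: l) = 2 ^ (17 * clsC (pmu2 y ρ)) + encT ρ l := by
  unfold encT
  rw [List.map_cons, List.sum_cons]

theorem encT_append (ρ : ℕ) (l₁ l₂ : List ℕ) : encT ρ (l₁ ++ l₂) = encT ρ l₁ + encT ρ l₂ := by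
  unfold encT
  rw [List.map_append, List.sum_append]

theorem tStep_map (R : List ℕ) (g : ℕ → ℕ) (y : ℕ) :
    tStep R y (R.map g) = R.map fun ρ => g ρ + 2 ^ (17 * clsC (pmu2 y ρ)) := by
  unfold tStep
  induction R with
  | nil => rfl
  | cons ρ R ih =>
    rw [List.map_cons, List.zipWith_cons_cons, List.map_cons, ih]
    congr 1
    show g ρ + 1 <<< (17 * clsC (pmu2 y ρ)) = _
    rw [Nat.shiftLeft_eq, one_mul]

theorem foldl_stepKT (R : List ℕ) (l : List ℕ) (K₀ : ℕ) (g : ℕ → ℕ) :
    l.foldl (fun a y => stepKT R y a) (K₀, R.map g) =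
      (l.foldl (fun K y => stepK y K) K₀, R.map fun ρ => g ρ + encT ρ l) := by
  induction l generalizing K₀ g with
  | nil => simp [encT_nil]
  | cons y l ih =>
    rw [List.foldl_cons, List.foldl_cons]
    show List.foldl _ (stepK y K₀, tStep R y (R.map g)) l = _
    rw [tStep_map, ih]
    congr 1
    apply List.map_congr_left
    intro ρ _
    rw [encT_cons, add_assoc]

theorem scanChunk_eq (rep : ℕ) (R : List ℕ) (ch : Chunk) :
    scanChunk rep R ch = ((expandChunk rep ch).foldl (fun K y => stepK y K) 1,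
      R.map fun ρ => encT ρ (expandChunk rep ch)) := by
  unfold scanChunk
  rw [scan_eq, foldl_stepKT]
  congr 1
  apply List.map_congr_left
  intro ρ _
  rw [zero_add]
  rfl

theorem expand_length_le (n T : ℕ) (st : List ℕ) : (expand n T st).length ≤ n := by
  induction n generalizing T st with
  | zero => simp [expand]
  | succ n ih =>
    cases st with
    | nil => simp [expand]
    | cons a st =>
      rw [expand]
      cases Nat.beq (Nat.land T 3) 3
      · simp only [cond_false, List.length_cons]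
        have := ih (Nat.shiftRight T 2) (conjG (Nat.land T 3) a :: a :: st)
        omega
      · simp only [cond_true]
        have := ih (Nat.shiftRight T 2) st
        omega

/-! ### the classifier takes values below 10 -/

theorem clsT_lt (f1 f2 h : ℕ) : clsT f1 f2 h < 10 := by
  unfold clsT
  generalize Nat.beq f1 24 = b1
  generalize Nat.beq f1 8 = b2
  generalize Nat.beq f1 6 = b3
  generalize Nat.beq f1 3 = b4
  generalize Nat.beq f1 4 = b5
  generalize Nat.beq f2 8 = b6
  generalize Nat.beq h 5 = b7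
  generalize Nat.beq f2 6 = b8
  generalize Nat.beq f2 4 = b9
  revert b1 b2 b3 b4 b5 b6 b7 b8 b9
  decide

theorem clsC_lt (c : ℕ) : clsC c < 10 := clsT_lt _ _ _

/-! ### reading the counts off a tally -/

theorem encT_eq_sum (ρ : ℕ) (l : List ℕ) :
    encT ρ l = ∑ t ∈ Finset.range 10,
      (l.countP fun y => decide (clsC (pmu2 y ρ) = t)) * (2 ^ 17) ^ t := by
  induction l with
  | nil => simp [encT_nil]
  | cons y l ih =>
    rw [encT_cons, ih]
    have h1 : ∀ t, ((y :: l).countP fun y => decide (clsC (pmu2 y ρ) = t)) =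
        (l.countP fun y => decide (clsC (pmu2 y ρ) = t)) +
          (if clsC (pmu2 y ρ) = t then 1 else 0) := by
      intro t
      rw [List.countP_cons]
      simp
    simp only [h1, add_mul, Finset.sum_add_distrib]
    rw [add_comm]
    congr 1
    rw [Finset.sum_eq_single (clsC (pmu2 y ρ))]
    · rw [if_pos rfl, one_mul, pow_mul]
    · intro t _ ht
      rw [if_neg (Ne.symm ht), zero_mul]
    · intro h
      exact absurd (Finset.mem_range.2 (clsC_lt _)) h

theorem countP_eq_dig (ρ : ℕ) (l : List ℕ) (hl : l.length < 2 ^ 17) (t : ℕ) (ht : t < 10) :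
    (l.countP fun y => decide (clsC (pmu2 y ρ) = t)) = dig (2 ^ 17) (encT ρ l) t := by
  rw [encT_eq_sum]
  rw [dig_sum (2 ^ 17) (by norm_num)
    (fun t => (l.countP fun y => decide (clsC (pmu2 y ρ) = t))) ?_ 10 t ht]
  intro m
  exact lt_of_le_of_lt (List.countP_le_length) hl

end Cfsg.Agent.Lib.Helper4.M22B
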