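import Cfsg.Agent.Lib.Helper4.M22B.Cert

/-!
# M22: class representatives (codes and tables)
-/

set_option autoImplicit false

namespace Cfsg.Agent.Lib.Helper4.M22B


/-- the code of the representative of class 0 -/
def rep0 : ℕ := 984818244535754528103549039458486304

/-- the table of the representative of class 0 -/
def tab0 : List ℕ := [0, 1, 2, 3, 4, 5, 6, 7, 8, 9, 10, 11, 12, 13, 14, 15, 16, 17, 18, 19, 20, 21, 22, 23]

/-- the code of the representative of class 1 -/
def rep1 : ℕ := 956770009283533158890859237102212800

/-- the table of the representative of class 1 -/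
def tab1 : List ℕ := [0, 22, 21, 4, 3, 5, 20, 11, 8, 9, 10, 7, 13, 12, 19, 16, 15, 17, 18, 14, 6, 2, 1, 23]

/-- the code of the representative of class 2 -/
def rep2 : ℕ := 956766404543728290000771570358273312

/-- the table of the representative of class 2 -/
def tab2 : List ℕ := [0, 9, 17, 15, 6, 7, 16, 11, 8, 22, 13, 5, 10, 12, 14, 20, 4, 21, 18, 19, 3, 2, 1, 23]

/-- the code of the representative of class 3 -/
def rep3 : ℕ := 956768330473578562706601615829550720

/-- the table of the representative of class 3 -/
def tab3 : List ℕ := [0, 20, 17, 9, 16, 22, 18, 7, 19, 11, 12, 14, 10, 21, 3, 15, 8, 13, 6, 4, 5, 2, 1, 23]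

/-- the code of the representative of class 4 -/
def rep4 : ℕ := 956765972393586611737164364411061952

/-- the table of the representative of class 4 -/
def tab4 : List ℕ := [0, 22, 17, 16, 11, 12, 15, 6, 19, 9, 20, 5, 4, 7, 14, 13, 10, 18, 21, 8, 3, 2, 1, 23]

/-- the code of the representative of class 5 -/
def rep5 : ℕ := 956765919942979935787421101528008320

/-- the table of the representative of class 5 -/
def tab5 : List ℕ := [0, 20, 17, 10, 21, 19, 4, 18, 12, 13, 22, 5, 15, 8, 14, 9, 16, 6, 11, 7, 3, 2, 1, 23]

/-- the code of the representative of class 6 -/
def rep6 : ℕ := 956765925400339520550198514444015296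

/-- the table of the representative of class 6 -/
def tab6 : List ℕ := [0, 22, 5, 4, 6, 21, 12, 9, 10, 11, 8, 14, 13, 20, 17, 16, 18, 19, 15, 7, 3, 2, 1, 23]

/-- the code of the representative of class 7 -/
def rep7 : ℕ := 956765799247528690951645549672416832

/-- the table of the representative of class 7 -/
def tab7 : List ℕ := [0, 18, 17, 12, 13, 16, 7, 20, 10, 21, 6, 5, 8, 15, 14, 11, 19, 22, 9, 4, 3, 2, 1, 23]

/-- the code of the representative of class 8 -/
def rep8 : ℕ := 977824475693412469677509372746028736

/-- the table of the representative of class 8 -/
def tab8 : List ℕ := [0, 22, 21, 20, 19, 11, 10, 6, 12, 18, 8, 15, 3, 4, 14, 13, 5, 2, 1, 16, 7, 9, 17, 23]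

/-- the code of the representative of class 9 -/
def rep9 : ℕ := 956765892041126936311149089991103616

/-- the table of the representative of class 9 -/
def tab9 : List ℕ := [0, 4, 5, 22, 7, 19, 11, 10, 9, 12, 18, 14, 16, 15, 17, 13, 8, 21, 20, 6, 3, 2, 1, 23]

/-- the code of the representative of class 10 -/
def rep10 : ℕ := 956765922991011824425384728505760000

/-- the table of the representative of class 10 -/
def tab10 : List ℕ := [0, 8, 14, 12, 19, 6, 10, 16, 4, 15, 20, 17, 11, 22, 5, 18, 9, 21, 13, 7, 3, 2, 1, 23]

/-- the code of the representative of class 11 -/
def rep11 : ℕ := 972960042652945939133020683975153344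

/-- the table of the representative of class 11 -/
def tab11 : List ℕ := [0, 22, 21, 20, 8, 14, 5, 19, 1, 16, 6, 12, 3, 18, 2, 9, 7, 11, 15, 4, 10, 17, 13, 23]

/-- the representatives against which class 0 is tallied -/
def R0 : List ℕ := []

/-- the representatives against which class 1 is tallied -/
def R1 : List ℕ := [rep1, rep5, rep7, rep8, rep10, rep11]

/-- the representatives against which class 2 is tallied -/
def R2 : List ℕ := [rep2]

/-- the representatives against which class 3 is tallied -/
def R3 : List ℕ := [rep3, rep5, rep7, rep8, rep10, rep11]

/-- the representatives against which class 4 is tallied -/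
def R4 : List ℕ := [rep4]

/-- the representatives against which class 5 is tallied -/
def R5 : List ℕ := []

/-- the representatives against which class 6 is tallied -/
def R6 : List ℕ := [rep6]

/-- the representatives against which class 7 is tallied -/
def R7 : List ℕ := []

/-- the representatives against which class 8 is tallied -/
def R8 : List ℕ := []

/-- the representatives against which class 9 is tallied -/
def R9 : List ℕ := [rep9]

/-- the representatives against which class 10 is tallied -/
def R10 : List ℕ := []

/-- the representatives against which class 11 is tallied -/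
def R11 : List ℕ := []


end Cfsg.Agent.Lib.Helper4.M22B
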