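import Cfsg.Agent.Lib.Helper4.M22B.Sem3
import Cfsg.Agent.Lib.Helper4.M22B.Reps

/-!
# M22: class data (generic part)
-/

set_option autoImplicit false

namespace Cfsg.Agent.Lib.Helper4.M22B

open Cfsg Cfsg.Agent.Lib.Helper1 Cfsg.Agent.Lib.Helper1.PermCode Cfsg.Agent.Lib.Helper1.MatCode
open Cfsg.Agent.Lib.Helper9.M24 (tperm)

/-- the group element with a checked table -/
def gOfChk {t : List ℕ} {c : ℕ} (h : chkM22 t c = true) : GG := ⟨tperm t, chkM22_mem h⟩

theorem isCode_gOfChk {t : List ℕ} {c : ℕ} (h : chkM22 t c = true) : IsCode c (gOfChk h) :=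
  ⟨canon_of_chkTab (chkM22_tab h), (phiP_of_chkTab (chkM22_tab h) _ _).symm⟩

/-- the data of one conjugacy class -/
structure ClassData where
  /-- code of the representative -/
  rep : ℕ
  /-- the codes against which the class is tallied -/
  R : List ℕ
  /-- the chunks -/
  chunks : List Chunk
  /-- the scans -/
  results : List (ℕ × List ℕ)
  /-- the representative -/
  g : GG
  hcode : IsCode rep g
  hres : chunks.map (scanChunk rep R) = results
  hfuel : ∀ ch ∈ chunks, ch.2.1 + 1 ≤ 30000

namespace ClassData

variable (C : ClassData)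

/-- the list of codes of the class -/
def L : List ℕ := DL C.rep C.chunks

/-- the list of keys of the class, computed from the scans -/
def KL : List ℕ := keyList C.rep C.results 30000

theorem valid : Valid C.L := DL_valid C.hcode C.chunks

theorem conj : ∀ c ∈ C.L, ∃ g : GG, IsCode c g ∧ IsConj C.g g := DL_conj C.hcode C.chunks

theorem cls_eq : ∀ c ∈ C.L, clsC c = clsC C.rep := DL_cls C.hcode C.chunks

theorem keys_perm : (C.L.map key).Perm C.KL :=
  DL_keys_perm C.rep C.R C.chunks C.results C.hres 30000 C.hfuel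

theorem length_eq : C.L.length = C.KL.length := by
  rw [← C.keys_perm.length_eq, List.length_map]

theorem rep_mem : C.rep ∈ C.L := List.mem_cons_self

theorem tally (j : ℕ) (hj : j < C.R.length) :
    encT (C.R.getD j 0) C.L =
      2 ^ (17 * clsC (pmu2 C.rep (C.R.getD j 0))) + (C.results.map fun r => r.2.getD j 0).sum :=
  DL_tally C.rep C.R C.chunks C.results C.hres j hj

/-- membership of the code of a group element in the list gives conjugacy -/
theorem isConj_of_mem {x : GG} (h : cd x ∈ C.L) : IsConj C.g x := by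
  obtain ⟨g, hg, hc⟩ := C.conj _ h
  rwa [hg.elt_unique (isCode_cd x)] at hc

theorem mem_of_isConj_rep : cd C.g ∈ C.L := by
  rw [cd_eq C.hcode]; exact C.rep_mem

end ClassData

/-! ### blocks with distinct labels -/

theorem nodup_flatten_of_labels (blocks : List (List ℕ)) (f : ℕ → ℕ)
    (h1 : ∀ l ∈ blocks, l.Nodup)
    (h2 : ∀ i (hi : i < blocks.length), ∀ c ∈ blocks[i], f c = i) : blocks.flatten.Nodup := by
  rw [List.nodup_flatten]
  refine ⟨h1, ?_⟩
  rw [List.pairwise_iff_getElem]
  intro i j hi hj hij a ha hb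
  have e1 := h2 i hi a ha
  have e2 := h2 j hj a hb
  omega

end Cfsg.Agent.Lib.Helper4.M22B
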