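import Cfsg.Agent.Lib.Helper4.M22B.D10x0
import Cfsg.Agent.Lib.Helper4.M22B.D10x1

set_option autoImplicit false
set_option maxRecDepth 100000

namespace Cfsg.Agent.Lib.Helper4.M22B

/-- the chunks of class 10 -/
def chunks10 : List Chunk := [D10.ch0, D10.ch1, D10.ch2, D10.ch3]

/-- the scans of the chunks of class 10 -/
def results10 : List (ℕ × List ℕ) := [D10.res0, D10.res1, D10.res2, D10.res3]

theorem hres10 : chunks10.map (scanChunk rep10 R10) = results10 := by
  simp only [chunks10, results10, List.map_cons, List.map_nil, D10.h0, D10.h1, D10.h2, D10.h3]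

theorem hfuel10 : ∀ ch ∈ chunks10, ch.2.1 + 1 ≤ 30000 := by decide +kernel

end Cfsg.Agent.Lib.Helper4.M22B
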