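import Cfsg.Agent.Lib.Helper4.M22B.D2x0

set_option autoImplicit false
set_option maxRecDepth 100000

namespace Cfsg.Agent.Lib.Helper4.M22B

/-- the chunks of class 2 -/
def chunks2 : List Chunk := [D2.ch0, D2.ch1, D2.ch2]

/-- the scans of the chunks of class 2 -/
def results2 : List (ℕ × List ℕ) := [D2.res0, D2.res1, D2.res2]

theorem hres2 : chunks2.map (scanChunk rep2 R2) = results2 := by
  simp only [chunks2, results2, List.map_cons, List.map_nil, D2.h0, D2.h1, D2.h2]

theorem hfuel2 : ∀ ch ∈ chunks2, ch.2.1 + 1 ≤ 30000 := by decide +kernel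

end Cfsg.Agent.Lib.Helper4.M22B
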