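import Cfsg.Agent.Lib.Helper4.M22B.D3x0
import Cfsg.Agent.Lib.Helper4.M22B.D3x1
import Cfsg.Agent.Lib.Helper4.M22B.D3x2

set_option autoImplicit false
set_option maxRecDepth 100000

namespace Cfsg.Agent.Lib.Helper4.M22B

/-- the chunks of class 3 -/
def chunks3 : List Chunk := [D3.ch0, D3.ch1, D3.ch2, D3.ch3, D3.ch4, D3.ch5, D3.ch6, D3.ch7]

/-- the scans of the chunks of class 3 -/
def results3 : List (ℕ × List ℕ) := [D3.res0, D3.res1, D3.res2, D3.res3, D3.res4, D3.res5, D3.res6, D3.res7]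

theorem hres3 : chunks3.map (scanChunk rep3 R3) = results3 := by
  simp only [chunks3, results3, List.map_cons, List.map_nil, D3.h0, D3.h1, D3.h2, D3.h3, D3.h4, D3.h5, D3.h6, D3.h7]

theorem hfuel3 : ∀ ch ∈ chunks3, ch.2.1 + 1 ≤ 30000 := by decide +kernel

end Cfsg.Agent.Lib.Helper4.M22B
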