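import Cfsg.Agent.Lib.Helper4.M22B.D4x0
import Cfsg.Agent.Lib.Helper4.M22B.D4x1

set_option autoImplicit false
set_option maxRecDepth 100000

namespace Cfsg.Agent.Lib.Helper4.M22B

/-- the chunks of class 4 -/
def chunks4 : List Chunk := [D4.ch0, D4.ch1, D4.ch2, D4.ch3, D4.ch4]

/-- the scans of the chunks of class 4 -/
def results4 : List (ℕ × List ℕ) := [D4.res0, D4.res1, D4.res2, D4.res3, D4.res4]

theorem hres4 : chunks4.map (scanChunk rep4 R4) = results4 := by
  simp only [chunks4, results4, List.map_cons, List.map_nil, D4.h0, D4.h1, D4.h2, D4.h3, D4.h4]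

theorem hfuel4 : ∀ ch ∈ chunks4, ch.2.1 + 1 ≤ 30000 := by decide +kernel

end Cfsg.Agent.Lib.Helper4.M22B
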