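import Cfsg.Agent.Lib.Helper4.M22B.D5x0
import Cfsg.Agent.Lib.Helper4.M22B.D5x1
import Cfsg.Agent.Lib.Helper4.M22B.D5x2

set_option autoImplicit false
set_option maxRecDepth 100000

namespace Cfsg.Agent.Lib.Helper4.M22B

/-- the chunks of class 5 -/
def chunks5 : List Chunk := [D5.ch0, D5.ch1, D5.ch2, D5.ch3, D5.ch4, D5.ch5, D5.ch6, D5.ch7]

/-- the scans of the chunks of class 5 -/
def results5 : List (ℕ × List ℕ) := [D5.res0, D5.res1, D5.res2, D5.res3, D5.res4, D5.res5, D5.res6, D5.res7]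

theorem hres5 : chunks5.map (scanChunk rep5 R5) = results5 := by
  simp only [chunks5, results5, List.map_cons, List.map_nil, D5.h0, D5.h1, D5.h2, D5.h3, D5.h4, D5.h5, D5.h6, D5.h7]

theorem hfuel5 : ∀ ch ∈ chunks5, ch.2.1 + 1 ≤ 30000 := by decide +kernel

end Cfsg.Agent.Lib.Helper4.M22B
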