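import Cfsg.Agent.Lib.Helper4.M22B.D6x0
import Cfsg.Agent.Lib.Helper4.M22B.D6x1
import Cfsg.Agent.Lib.Helper4.M22B.D6x2

set_option autoImplicit false
set_option maxRecDepth 100000

namespace Cfsg.Agent.Lib.Helper4.M22B

/-- the chunks of class 6 -/
def chunks6 : List Chunk := [D6.ch0, D6.ch1, D6.ch2, D6.ch3, D6.ch4, D6.ch5, D6.ch6]

/-- the scans of the chunks of class 6 -/
def results6 : List (ℕ × List ℕ) := [D6.res0, D6.res1, D6.res2, D6.res3, D6.res4, D6.res5, D6.res6]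

theorem hres6 : chunks6.map (scanChunk rep6 R6) = results6 := by
  simp only [chunks6, results6, List.map_cons, List.map_nil, D6.h0, D6.h1, D6.h2, D6.h3, D6.h4, D6.h5, D6.h6]

theorem hfuel6 : ∀ ch ∈ chunks6, ch.2.1 + 1 ≤ 30000 := by decide +kernel

end Cfsg.Agent.Lib.Helper4.M22B
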