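import Cfsg.Agent.Lib.Helper4.M22B.D7x0
import Cfsg.Agent.Lib.Helper4.M22B.D7x1

set_option autoImplicit false
set_option maxRecDepth 100000

namespace Cfsg.Agent.Lib.Helper4.M22B

/-- the chunks of class 7 -/
def chunks7 : List Chunk := [D7.ch0, D7.ch1, D7.ch2, D7.ch3, D7.ch4, D7.ch5]

/-- the scans of the chunks of class 7 -/
def results7 : List (ℕ × List ℕ) := [D7.res0, D7.res1, D7.res2, D7.res3, D7.res4, D7.res5]

theorem hres7 : chunks7.map (scanChunk rep7 R7) = results7 := by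
  simp only [chunks7, results7, List.map_cons, List.map_nil, D7.h0, D7.h1, D7.h2, D7.h3, D7.h4, D7.h5]

theorem hfuel7 : ∀ ch ∈ chunks7, ch.2.1 + 1 ≤ 30000 := by decide +kernel

end Cfsg.Agent.Lib.Helper4.M22B
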