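import Cfsg.Agent.Lib.Helper4.M22B.D9x0
import Cfsg.Agent.Lib.Helper4.M22B.D9x1
import Cfsg.Agent.Lib.Helper4.M22B.D9x2
import Cfsg.Agent.Lib.Helper4.M22B.D9x3

set_option autoImplicit false
set_option maxRecDepth 100000

namespace Cfsg.Agent.Lib.Helper4.M22B

/-- the chunks of class 9 -/
def chunks9 : List Chunk := [D9.ch0, D9.ch1, D9.ch2, D9.ch3, D9.ch4, D9.ch5, D9.ch6, D9.ch7, D9.ch8, D9.ch9]

/-- the scans of the chunks of class 9 -/
def results9 : List (ℕ × List ℕ) := [D9.res0, D9.res1, D9.res2, D9.res3, D9.res4, D9.res5, D9.res6, D9.res7, D9.res8, D9.res9]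

theorem hres9 : chunks9.map (scanChunk rep9 R9) = results9 := by
  simp only [chunks9, results9, List.map_cons, List.map_nil, D9.h0, D9.h1, D9.h2, D9.h3, D9.h4, D9.h5, D9.h6, D9.h7, D9.h8, D9.h9]

theorem hfuel9 : ∀ ch ∈ chunks9, ch.2.1 + 1 ≤ 30000 := by decide +kernel

end Cfsg.Agent.Lib.Helper4.M22B
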