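import Cfsg.Agent.Lib.Helper4.M22B.Bk0x0
import Cfsg.Agent.Lib.Helper4.M22B.Bk1x0
import Cfsg.Agent.Lib.Helper4.M22B.Bk2x0
import Cfsg.Agent.Lib.Helper4.M22B.Bk3x0
import Cfsg.Agent.Lib.Helper4.M22B.Bk4x0
import Cfsg.Agent.Lib.Helper4.M22B.Bk5x0
import Cfsg.Agent.Lib.Helper4.M22B.Bk5x1
import Cfsg.Agent.Lib.Helper4.M22B.Bk5x2
import Cfsg.Agent.Lib.Helper4.M22B.Bk6x0
import Cfsg.Agent.Lib.Helper4.M22B.Bk6x1
import Cfsg.Agent.Lib.Helper4.M22B.Bk78x0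
import Cfsg.Agent.Lib.Helper4.M22B.Bk78x1
import Cfsg.Agent.Lib.Helper4.M22B.Bk78x2
import Cfsg.Agent.Lib.Helper4.M22B.Bk78x3
import Cfsg.Agent.Lib.Helper4.M22B.Bk9x0
import Cfsg.Agent.Lib.Helper4.M22B.Bk9x1
import Cfsg.Agent.Lib.Helper4.M22B.Bk1011x0
import Cfsg.Agent.Lib.Helper4.M22B.Bk1011x1
import Cfsg.Agent.Lib.Helper4.M22B.Bk1011x2

/-! # M22: the keys of each class list are distinct (generated) -/

set_option autoImplicit false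
set_option maxRecDepth 100000

namespace Cfsg.Agent.Lib.Helper4.M22B

theorem nodupKL0 : (keyList rep0 [] 30000).Nodup :=
  nodup_of_rangesOK _ [33554432] 33554432
    (fun k hk => keyList_lt _ _ _ k hk) rfl
    ((rangesOK_cons _ _ _ _).2 ⟨nodup_range1 _ _ _ _ _ _ bkt0_0,
    (show RangesOK _ [_] from trivial)⟩)

theorem nodupKL1 : (keyList rep1 results1 30000).Nodup :=
  nodup_of_rangesOK _ [33554432] 33554432
    (fun k hk => keyList_lt _ _ _ k hk) rfl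
    ((rangesOK_cons _ _ _ _).2 ⟨nodup_range1 _ _ _ _ _ _ bkt1_0,
    (show RangesOK _ [_] from trivial)⟩)

theorem nodupKL2 : (keyList rep2 results2 30000).Nodup :=
  nodup_of_rangesOK _ [33554432] 33554432
    (fun k hk => keyList_lt _ _ _ k hk) rfl
    ((rangesOK_cons _ _ _ _).2 ⟨nodup_range1 _ _ _ _ _ _ bkt2_0,
    (show RangesOK _ [_] from trivial)⟩)

theorem nodupKL3 : (keyList rep3 results3 30000).Nodup :=
  nodup_of_rangesOK _ [33554432] 33554432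
    (fun k hk => keyList_lt _ _ _ k hk) rfl
    ((rangesOK_cons _ _ _ _).2 ⟨nodup_range1 _ _ _ _ _ _ bkt3_0,
    (show RangesOK _ [_] from trivial)⟩)

theorem nodupKL4 : (keyList rep4 results4 30000).Nodup :=
  nodup_of_rangesOK _ [7807091, 15944113, 33554432] 33554432
    (fun k hk => keyList_lt _ _ _ k hk) rfl
    ((rangesOK_cons _ _ _ _).2 ⟨nodup_range1 _ _ _ _ _ _ bkt4_0,
    (rangesOK_cons _ _ _ _).2 ⟨nodup_range1 _ _ _ _ _ _ bkt4_1,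
    (rangesOK_cons _ _ _ _).2 ⟨nodup_range1 _ _ _ _ _ _ bkt4_2,
    (show RangesOK _ [_] from trivial)⟩⟩⟩)

theorem nodupKL5 : (keyList rep5 results5 30000).Nodup :=
  nodup_of_rangesOK _ [3812654, 5882447, 8818899, 11842950, 14914658, 17978786, 21084385, 33554432] 33554432
    (fun k hk => keyList_lt _ _ _ k hk) rfl
    ((rangesOK_cons _ _ _ _).2 ⟨nodup_range1 _ _ _ _ _ _ bkt5_0,
    (rangesOK_cons _ _ _ _).2 ⟨nodup_range1 _ _ _ _ _ _ bkt5_1,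
    (rangesOK_cons _ _ _ _).2 ⟨nodup_range1 _ _ _ _ _ _ bkt5_2,
    (rangesOK_cons _ _ _ _).2 ⟨nodup_range1 _ _ _ _ _ _ bkt5_3,
    (rangesOK_cons _ _ _ _).2 ⟨nodup_range1 _ _ _ _ _ _ bkt5_4,
    (rangesOK_cons _ _ _ _).2 ⟨nodup_range1 _ _ _ _ _ _ bkt5_5,
    (rangesOK_cons _ _ _ _).2 ⟨nodup_range1 _ _ _ _ _ _ bkt5_6,
    (rangesOK_cons _ _ _ _).2 ⟨nodup_range1 _ _ _ _ _ _ bkt5_7,
    (show RangesOK _ [_] from trivial)⟩⟩⟩⟩⟩⟩⟩⟩)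

theorem nodupKL6 : (keyList rep6 results6 30000).Nodup :=
  nodup_of_rangesOK _ [7604643, 13013459, 18425494, 33554432] 33554432
    (fun k hk => keyList_lt _ _ _ k hk) rfl
    ((rangesOK_cons _ _ _ _).2 ⟨nodup_range1 _ _ _ _ _ _ bkt6_0,
    (rangesOK_cons _ _ _ _).2 ⟨nodup_range1 _ _ _ _ _ _ bkt6_1,
    (rangesOK_cons _ _ _ _).2 ⟨nodup_range1 _ _ _ _ _ _ bkt6_2,
    (rangesOK_cons _ _ _ _).2 ⟨nodup_range1 _ _ _ _ _ _ bkt6_3,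
    (show RangesOK _ [_] from trivial)⟩⟩⟩⟩)

theorem nodupKL78 : (keyList rep7 results7 30000 ++ keyList rep8 results8 30000).Nodup :=
  nodup_of_rangesOK _ [3180680, 5277830, 7374994, 9472205, 11569389, 13666472, 15763596, 17860743, 19957900, 22055177, 33554432] 33554432
    (fun k hk => (List.mem_append.1 hk).elim (keyList_lt _ _ _ k) (keyList_lt _ _ _ k)) rfl
    ((rangesOK_cons _ _ _ _).2 ⟨nodup_range2 _ _ _ _ _ _ _ _ bkt78_0,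
    (rangesOK_cons _ _ _ _).2 ⟨nodup_range2 _ _ _ _ _ _ _ _ bkt78_1,
    (rangesOK_cons _ _ _ _).2 ⟨nodup_range2 _ _ _ _ _ _ _ _ bkt78_2,
    (rangesOK_cons _ _ _ _).2 ⟨nodup_range2 _ _ _ _ _ _ _ _ bkt78_3,
    (rangesOK_cons _ _ _ _).2 ⟨nodup_range2 _ _ _ _ _ _ _ _ bkt78_4,
    (rangesOK_cons _ _ _ _).2 ⟨nodup_range2 _ _ _ _ _ _ _ _ bkt78_5,
    (rangesOK_cons _ _ _ _).2 ⟨nodup_range2 _ _ _ _ _ _ _ _ bkt78_6,
    (rangesOK_cons _ _ _ _).2 ⟨nodup_range2 _ _ _ _ _ _ _ _ bkt78_7,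
    (rangesOK_cons _ _ _ _).2 ⟨nodup_range2 _ _ _ _ _ _ _ _ bkt78_8,
    (rangesOK_cons _ _ _ _).2 ⟨nodup_range2 _ _ _ _ _ _ _ _ bkt78_9,
    (rangesOK_cons _ _ _ _).2 ⟨nodup_range2 _ _ _ _ _ _ _ _ bkt78_10,
    (show RangesOK _ [_] from trivial)⟩⟩⟩⟩⟩⟩⟩⟩⟩⟩⟩)

theorem nodupKL9 : (keyList rep9 results9 30000).Nodup :=
  nodup_of_rangesOK _ [6476162, 10800815, 15178966, 19451142, 33554432] 33554432
    (fun k hk => keyList_lt _ _ _ k hk) rfl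
    ((rangesOK_cons _ _ _ _).2 ⟨nodup_range1 _ _ _ _ _ _ bkt9_0,
    (rangesOK_cons _ _ _ _).2 ⟨nodup_range1 _ _ _ _ _ _ bkt9_1,
    (rangesOK_cons _ _ _ _).2 ⟨nodup_range1 _ _ _ _ _ _ bkt9_2,
    (rangesOK_cons _ _ _ _).2 ⟨nodup_range1 _ _ _ _ _ _ bkt9_3,
    (rangesOK_cons _ _ _ _).2 ⟨nodup_range1 _ _ _ _ _ _ bkt9_4,
    (show RangesOK _ [_] from trivial)⟩⟩⟩⟩⟩)

theorem nodupKL1011 : (keyList rep10 results10 30000 ++ keyList rep11 results11 30000).Nodup :=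
  nodup_of_rangesOK _ [4229286, 8423662, 11571397, 14715027, 17860756, 21006515, 33554432] 33554432
    (fun k hk => (List.mem_append.1 hk).elim (keyList_lt _ _ _ k) (keyList_lt _ _ _ k)) rfl
    ((rangesOK_cons _ _ _ _).2 ⟨nodup_range2 _ _ _ _ _ _ _ _ bkt1011_0,
    (rangesOK_cons _ _ _ _).2 ⟨nodup_range2 _ _ _ _ _ _ _ _ bkt1011_1,
    (rangesOK_cons _ _ _ _).2 ⟨nodup_range2 _ _ _ _ _ _ _ _ bkt1011_2,
    (rangesOK_cons _ _ _ _).2 ⟨nodup_range2 _ _ _ _ _ _ _ _ bkt1011_3,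
    (rangesOK_cons _ _ _ _).2 ⟨nodup_range2 _ _ _ _ _ _ _ _ bkt1011_4,
    (rangesOK_cons _ _ _ _).2 ⟨nodup_range2 _ _ _ _ _ _ _ _ bkt1011_5,
    (rangesOK_cons _ _ _ _).2 ⟨nodup_range2 _ _ _ _ _ _ _ _ bkt1011_6,
    (show RangesOK _ [_] from trivial)⟩⟩⟩⟩⟩⟩⟩)

end Cfsg.Agent.Lib.Helper4.M22B
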