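import Mathlib
import Cfsg.Prelude.Def_Blocks
import Cfsg.Agent.Lib.Helper8.BlockIdem
import Cfsg.Agent.Lib.Helper8.BlockUnion
import Cfsg.Agent.Lib.Helper8.DI1

/-!
# A criterion for a finite group to have a single 2-block

The criterion is phrased through a conjugation-invariant "type" function `cls : G → ℕ` and
the counts `#{x | cls x = i ∧ cls (x⁻¹ g) = i}` (the values of the convolution square of the
indicator of a type).
-/

set_option autoImplicit false

namespace Cfsg.Agent.Lib.Helper4.M22B

open Cfsg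
open Cfsg.Agent.Lib.Helper1 Cfsg.Agent.Lib.Helper4 Cfsg.Agent.Lib.Helper8

universe u

section Theory

variable {G : Type u} [Group G] [Fintype G] {M : Ideal AlgInt}

/-- the indicator of a type -/
noncomputable def tyInd (cls : G → ℕ) (t : ℕ) : G → ℂ := fun x => if cls x = t then 1 else 0

/-- the number of factorizations of `g` as a product of two elements of type `i` -/
noncomputable def cnt (cls : G → ℕ) (i : ℕ) (g : G) : ℕ := by
  classical exact (Finset.univ.filter (fun x : G => cls x = i ∧ cls (x⁻¹ * g) = i)).card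

theorem isClassFunction_tyInd {cls : G → ℕ} (hcls : ∀ x h : G, cls (h * x * h⁻¹) = cls x) (t : ℕ) :
    IsClassFunction G (tyInd cls t) := by
  intro g h
  unfold tyInd
  rw [hcls]

theorem conv_tyInd (cls : G → ℕ) (i : ℕ) (g : G) :
    conv (tyInd cls i) (tyInd cls i) g = (cnt cls i g : ℂ) := by
  classical
  rw [conv_apply]
  unfold cnt tyInd
  rw [Finset.card_filter, Nat.cast_sum]
  refine Finset.sum_congr rfl fun y _ => ?_
  by_cases h1 : cls y = i
  · by_cases h2 : cls (y⁻¹ * g) = i
    · simp [h1, h2]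
    · simp [h1, h2]
  · simp [h1]

theorem isClassFunction_cnt {cls : G → ℕ} (hcls : ∀ x h : G, cls (h * x * h⁻¹) = cls x) (i : ℕ) :
    IsClassFunction G (fun g => (cnt cls i g : ℂ)) := by
  have h := isClassFunction_conv (isClassFunction_tyInd hcls i) (isClassFunction_tyInd hcls i)
  intro g t
  have := h g t
  rw [conv_tyInd, conv_tyInd] at this
  exact this

theorem cnt_conj {cls : G → ℕ} (hcls : ∀ x h : G, cls (h * x * h⁻¹) = cls x) (i : ℕ) (g t : G) :
    cnt cls i (t * g * t⁻¹) = cnt cls i g := by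
  have := isClassFunction_cnt hcls i g t
  simp only at this
  exact_mod_cast this

theorem cnt_of_isConj {cls : G → ℕ} (hcls : ∀ x h : G, cls (h * x * h⁻¹) = cls x) (i : ℕ) {g g' : G}
    (h : IsConj g g') : cnt cls i g' = cnt cls i g := by
  obtain ⟨t, ht⟩ := isConj_iff.1 h
  rw [← ht, cnt_conj hcls]

/-! ### Double counting -/

/-- the number of `x` of type `i` with `x * h` of type `t` -/
noncomputable def bcnt (cls : G → ℕ) (i t : ℕ) (h : G) : ℕ := by
  classical exact (Finset.univ.filter (fun x : G => cls x = i ∧ cls (x * h) = t)).card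

theorem bcnt_conj {cls : G → ℕ} (hcls : ∀ x h : G, cls (h * x * h⁻¹) = cls x) (i t : ℕ) (h s : G) :
    bcnt cls i t (s * h * s⁻¹) = bcnt cls i t h := by
  classical
  unfold bcnt
  apply Finset.card_bij (fun x _ => s⁻¹ * x * s)
  · intro x hx
    simp only [Finset.mem_filter, Finset.mem_univ, true_and] at hx ⊢
    constructor
    · have := hcls x s⁻¹
      rw [inv_inv] at this
      rw [this]; exact hx.1
    · have e : s⁻¹ * x * s * h = s⁻¹ * (x * (s * h * s⁻¹)) * s⁻¹⁻¹ := by group
      rw [e, hcls]; exact hx.2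
  · intro x _ y _ hxy
    have := congrArg (fun z => s * z * s⁻¹) hxy
    have e1 : s * (s⁻¹ * x * s) * s⁻¹ = x := by group
    have e2 : s * (s⁻¹ * y * s) * s⁻¹ = y := by group
    change s * (s⁻¹ * x * s) * s⁻¹ = s * (s⁻¹ * y * s) * s⁻¹ at this
    rw [e1, e2] at this
    exact this
  · intro y hy
    simp only [Finset.mem_filter, Finset.mem_univ, true_and] at hy
    refine ⟨s * y * s⁻¹, ?_, by group⟩
    simp only [Finset.mem_filter, Finset.mem_univ, true_and]
    constructor
    · rw [hcls]; exact hy.1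
    · have e : s * y * s⁻¹ * (s * h * s⁻¹) = s * (y * h) * s⁻¹ := by group
      rw [e, hcls]; exact hy.2

theorem double_count {cls : G → ℕ} (hcls : ∀ x h : G, cls (h * x * h⁻¹) = cls x) (i t : ℕ)
    (gi gt : G) (hi : ∀ x : G, cls x = i → IsConj gi x) (ht : ∀ x : G, cls x = t → IsConj gt x) :
    (Finset.univ.filter (fun g : G => cls g = t)).card * cnt cls i gt =
      (Finset.univ.filter (fun h : G => cls h = i)).card * bcnt cls i t gi := by
  classical
  have h1 : (Finset.univ.filter (fun g : G => cls g = t)).card * cnt cls i gt =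
      ∑ g : G, ∑ x : G, (if cls g = t ∧ cls x = i ∧ cls (x⁻¹ * g) = i then 1 else 0) := by
    rw [Finset.card_filter, Finset.sum_mul]
    refine Finset.sum_congr rfl fun g _ => ?_
    by_cases hg : cls g = t
    · rw [if_pos hg, one_mul, ← cnt_of_isConj hcls i (ht g hg)]
      unfold cnt
      rw [Finset.card_filter]
      refine Finset.sum_congr rfl fun x _ => ?_
      simp only [hg, true_and]
    · rw [if_neg hg, zero_mul]
      symm
      apply Finset.sum_eq_zero
      intro x _
      rw [if_neg]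
      exact fun h => hg h.1
  have h2 : (Finset.univ.filter (fun h : G => cls h = i)).card * bcnt cls i t gi =
      ∑ h : G, ∑ x : G, (if cls h = i ∧ cls x = i ∧ cls (x * h) = t then 1 else 0) := by
    rw [Finset.card_filter, Finset.sum_mul]
    refine Finset.sum_congr rfl fun h _ => ?_
    by_cases hh : cls h = i
    · rw [if_pos hh, one_mul]
      obtain ⟨s, hs⟩ := isConj_iff.1 (hi h hh)
      rw [← bcnt_conj hcls i t gi s, hs]
      unfold bcnt
      rw [Finset.card_filter]
      refine Finset.sum_congr rfl fun x _ => ?_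
      simp only [hh, true_and]
    · rw [if_neg hh, zero_mul]
      symm
      apply Finset.sum_eq_zero
      intro x _
      rw [if_neg]
      exact fun h' => hh h'.1
  rw [h1, h2, Finset.sum_comm]
  conv_rhs => rw [Finset.sum_comm]
  refine Finset.sum_congr rfl fun x _ => ?_
  rw [← Equiv.sum_comp (Equiv.mulLeft x)]
  refine Finset.sum_congr rfl fun h _ => ?_
  simp only [Equiv.coe_mulLeft, inv_mul_cancel_left]
  by_cases h1 : cls (x * h) = t <;> by_cases h2 : cls x = i <;> by_cases h3 : cls h = i <;>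
    simp [h1, h2, h3]

theorem cnt_eq_bcnt_of_inv {cls : G → ℕ} (i : ℕ) (hinv : ∀ x : G, cls x = i → cls x⁻¹ = i)
    (g : G) : cnt cls i g = bcnt cls i i g := by
  classical
  unfold cnt bcnt
  apply Finset.card_bij (fun x _ => x⁻¹)
  · intro x hx
    simp only [Finset.mem_filter, Finset.mem_univ, true_and] at hx ⊢
    exact ⟨hinv x hx.1, hx.2⟩
  · intro x _ y _ hxy
    exact inv_injective hxy
  · intro y hy
    simp only [Finset.mem_filter, Finset.mem_univ, true_and] at hy
    refine ⟨y⁻¹, ?_, inv_inv y⟩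
    simp only [Finset.mem_filter, Finset.mem_univ, true_and, inv_inv]
    exact ⟨hinv y hy.1, hy.2⟩

/-! ### The valuation argument for classes with centralizers of odd order -/

theorem two_pow_dvd_index {x : G} (hx : ¬ 2 ∣ Nat.card (Subgroup.centralizer ({x} : Set G))) :
    2 ^ (Nat.card G).factorization 2 ∣ (Subgroup.centralizer ({x} : Set G)).index := by
  have h1 : (Subgroup.centralizer ({x} : Set G)).index *
      Nat.card (Subgroup.centralizer ({x} : Set G)) = Nat.card G := Subgroup.index_mul_card _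
  have h2 : 2 ^ (Nat.card G).factorization 2 ∣ (Subgroup.centralizer ({x} : Set G)).index *
      Nat.card (Subgroup.centralizer ({x} : Set G)) := by
    rw [h1]
    exact Nat.ordProj_dvd _ _
  have hcop : Nat.Coprime (2 ^ (Nat.card G).factorization 2)
      (Nat.card (Subgroup.centralizer ({x} : Set G))) := by
    apply Nat.Coprime.pow_left
    exact (Nat.Prime.coprime_iff_not_dvd Nat.prime_two).2 hx
  exact hcop.dvd_of_dvd_mul_right h2

theorem memLocalIdeal_centralChar_of_odd (hM : IsPModular 2 M) (χ : IrrCharacter G)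
    (hndz : ¬ 2 ^ (Nat.card G).factorization 2 ∣ charDegree (χ : G → ℂ)) {x : G}
    (hx : ¬ 2 ∣ Nat.card (Subgroup.centralizer ({x} : Set G))) :
    MemLocalIdeal M (centralChar (χ : G → ℂ) x) := by
  have hMt := isPModular_ne_top hM
  obtain ⟨hd1, hd0⟩ := irr_apply_one_eq_charDegree χ.2
  set a := (Nat.card G).factorization 2 with ha
  set d := charDegree (χ : G → ℂ) with hd
  obtain ⟨m, hm⟩ := two_pow_dvd_index hx
  obtain ⟨b, d', hd'odd, hdd'⟩ := Nat.exists_eq_two_pow_mul_odd hd0.ne'
  have hba : b < a := by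
    by_contra hcon
    rw [not_lt] at hcon
    apply hndz
    rw [hdd']
    exact Dvd.dvd.mul_right (pow_dvd_pow 2 hcon) d'
  have hd'2 : ¬ 2 ∣ d' := fun h => (Nat.not_even_iff_odd.2 hd'odd) (even_iff_two_dvd.2 h)
  have hd'0 : (d' : ℂ) ≠ 0 := by
    have : d' ≠ 0 := fun h => hd'2 (h ▸ dvd_zero 2)
    exact_mod_cast this
  have heq : centralChar (χ : G → ℂ) x =
      (2 : ℂ) * (((2 ^ (a - b - 1) * m : ℕ) : ℂ) * (χ : G → ℂ) x * ((d' : ℂ))⁻¹) := by
    unfold centralChar
    rw [hd1, hm, hdd']
    have h2a : (2 : ℂ) ^ a = 2 ^ b * 2 * 2 ^ (a - b - 1) := by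
      rw [← pow_succ, ← pow_add]
      congr 1
      omega
    push_cast
    rw [h2a]
    have h2b : ((2 : ℂ) ^ b) ≠ 0 := pow_ne_zero _ two_ne_zero
    field_simp
  rw [heq]
  apply memLocalIdeal_mul_right hM.2.1.isPrime
  · have := memLocalIdeal_prime hM
    exact_mod_cast this
  · apply memLocalRing_mul hM.2.1.isPrime
    · apply memLocalRing_mul hM.2.1.isPrime
      · exact memLocalRing_natCast hMt _
      · exact memLocalRing_char_apply hMt (isCharacter_of_irr χ.2) x
    · exact memLocalRing_inv_natCast hM hd'2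

/-- central characters of integer-valued class functions are local integers -/
theorem memLocalRing_omega_int (hM : IsPModular 2 M) (χ : IrrCharacter G) (H : G → ℤ)
    (hH : IsClassFunction G (fun g => (H g : ℂ))) :
    MemLocalRing M (omega (χ : G → ℂ) (fun g => (H g : ℂ))) :=
  memLocalRing_omega hM.2.1.isPrime χ.2 hH
    (fun g => memLocalRing_intCast (isPModular_ne_top hM) _)

/-- an integer-valued class function supported on elements with centralizers of odd order is
killed modulo `M` by the central character of a character not of 2-defect zero -/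
theorem memLocalIdeal_omega_of_odd (hM : IsPModular 2 M) (χ : IrrCharacter G)
    (hndz : ¬ 2 ^ (Nat.card G).factorization 2 ∣ charDegree (χ : G → ℂ))
    (R : G → ℤ) (hR : IsClassFunction G (fun g => (R g : ℂ)))
    (hsupp : ∀ g, R g ≠ 0 → ¬ 2 ∣ Nat.card (Subgroup.centralizer ({g} : Set G))) :
    MemLocalIdeal M (omega (χ : G → ℂ) (fun g => (R g : ℂ))) := by
  classical
  letI : Fintype (ConjClasses G) := Fintype.ofFinite _
  have hMp := hM.2.1.isPrime
  rw [omega_eq_sum_classes χ.2 hR]
  apply memLocalIdeal_sum hMp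
  intro c _
  by_cases h0 : R (Quotient.out c) = 0
  · simp only [h0, Int.cast_zero, zero_mul]
    exact memLocalIdeal_zero (isPModular_ne_top hM)
  · exact memLocalIdeal_mul_left hMp (memLocalRing_intCast (isPModular_ne_top hM) _)
      (memLocalIdeal_centralChar_of_odd hM χ hndz (hsupp _ h0))

theorem isClassFunction_intCast {F : G → ℤ} (hF : ∀ x h : G, F (h * x * h⁻¹) = F x) :
    IsClassFunction G (fun g => (F g : ℂ)) := by
  intro g h
  simp only
  rw [hF]

/-- the decomposition lemma -/
theorem omega_sub_mem [DecidableEq G] (hM : IsPModular 2 M) (χ : IrrCharacter G)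
    (hndz : ¬ 2 ^ (Nat.card G).factorization 2 ∣ charDegree (χ : G → ℂ))
    (E : G → Prop) (hE : ∀ x h : G, E (h * x * h⁻¹) ↔ E x)
    (hodd : ∀ x, ¬ E x → ¬ 2 ∣ Nat.card (Subgroup.centralizer ({x} : Set G)))
    (F : G → ℤ) (hF : ∀ x h : G, F (h * x * h⁻¹) = F x) (c : ℤ)
    (hpar : ∀ g, E g → (2 : ℤ) ∣ F g - (if g = 1 then c else 0)) :
    MemLocalIdeal M (omega (χ : G → ℂ) (fun g => (F g : ℂ)) - c) := by
  classical
  have hMp := hM.2.1.isPrime
  have hMt := isPModular_ne_top hM
  set F' : G → ℤ := fun g => F g - (if g = 1 then c else 0) with hF'def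
  have hF' : ∀ x h : G, F' (h * x * h⁻¹) = F' x := by
    intro x h
    simp only [hF'def]
    rw [hF]
    simp only [conj_eq_one_iff]
  set H : G → ℤ := fun g => if E g then F' g / 2 else 0 with hHdef
  set R : G → ℤ := fun g => if E g then 0 else F' g with hRdef
  have hH : ∀ x h : G, H (h * x * h⁻¹) = H x := by
    intro x h
    simp only [hHdef]
    rw [hF', if_congr (hE x h) rfl rfl]
  have hR : ∀ x h : G, R (h * x * h⁻¹) = R x := by
    intro x h
    simp only [hRdef]
    rw [hF', if_congr (hE x h) rfl rfl]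
  have hdec : (fun g => (F g : ℂ)) = (c : ℂ) • (deltaOne : G → ℂ) +
      ((2 : ℂ) • (fun g => (H g : ℂ)) + (fun g => (R g : ℂ))) := by
    funext g
    simp only [Pi.add_apply, Pi.smul_apply, smul_eq_mul]
    have h1 : (F g : ℂ) = (F' g : ℂ) + (c : ℂ) * (deltaOne : G → ℂ) g := by
      simp only [hF'def]
      unfold deltaOne
      by_cases hg : g = 1
      · simp [hg]
      · simp [hg]
    have h2 : (F' g : ℂ) = 2 * (H g : ℂ) + (R g : ℂ) := by
      simp only [hHdef, hRdef]
      by_cases hg : E g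
      · rw [if_pos hg, if_pos hg]
        obtain ⟨k, hk⟩ := hpar g hg
        have : F' g = 2 * k := hk
        rw [this]
        simp
      · rw [if_neg hg, if_neg hg]
        simp
    rw [h1, h2]
    ring
  rw [hdec, omega_add, omega_add, omega_smul, omega_smul,
    omega_deltaOne (irr_apply_one_ne_zero χ.2)]
  have e : (c : ℂ) * 1 + (2 * omega (χ : G → ℂ) (fun g => (H g : ℂ)) +
      omega (χ : G → ℂ) (fun g => (R g : ℂ))) - c =
      2 * omega (χ : G → ℂ) (fun g => (H g : ℂ)) + omega (χ : G → ℂ) (fun g => (R g : ℂ)) := by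
    ring
  rw [e]
  apply memLocalIdeal_add hMp
  · apply memLocalIdeal_mul_right hMp
    · have := memLocalIdeal_prime hM
      exact_mod_cast this
    · exact memLocalRing_omega_int hM χ H (isClassFunction_intCast hH)
  · apply memLocalIdeal_omega_of_odd hM χ hndz R (isClassFunction_intCast hR)
    intro g hg
    apply hodd
    intro hEg
    apply hg
    simp only [hRdef]
    rw [if_pos hEg]

/-- the first step: a class function with odd value at `1` and even values elsewhere is not killed -/
theorem omega_ne_zero_of_parity [DecidableEq G] (hM : IsPModular 2 M) (χ : IrrCharacter G)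
    (F : G → ℤ) (hF : ∀ x h : G, F (h * x * h⁻¹) = F x)
    (hpar : ∀ g, (2 : ℤ) ∣ F g - (if g = 1 then 1 else 0)) :
    omega (χ : G → ℂ) (fun g => (F g : ℂ)) ≠ 0 := by
  classical
  have hMp := hM.2.1.isPrime
  intro hz
  set H : G → ℤ := fun g => (F g - (if g = 1 then 1 else 0)) / 2 with hHdef
  have hH : ∀ x h : G, H (h * x * h⁻¹) = H x := by
    intro x h
    simp only [hHdef]
    rw [hF]
    simp only [conj_eq_one_iff]
  have hdec : (fun g => (F g : ℂ)) = (deltaOne : G → ℂ) + (2 : ℂ) • (fun g => (H g : ℂ)) := by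
    funext g
    simp only [Pi.add_apply, Pi.smul_apply, smul_eq_mul, hHdef]
    obtain ⟨k, hk⟩ := hpar g
    rw [hk]
    have hFg : F g = 2 * k + (if g = 1 then 1 else 0) := by omega
    rw [hFg]
    unfold deltaOne
    by_cases hg : g = 1
    · simp [hg]
      ring
    · simp [hg]
  rw [hdec, omega_add, omega_smul, omega_deltaOne (irr_apply_one_ne_zero χ.2)] at hz
  have h1 : (1 : ℂ) = - (2 * omega (χ : G → ℂ) (fun g => (H g : ℂ))) := by
    linear_combination hz
  apply not_memLocalIdeal_one hMp (M := M)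
  rw [h1]
  apply memLocalIdeal_neg
  apply memLocalIdeal_mul_right hMp
  · have := memLocalIdeal_prime hM
    exact_mod_cast this
  · exact memLocalRing_omega_int hM χ H (isClassFunction_intCast hH)

theorem memLocalIdeal_of_sq (hM : IsPModular 2 M) {z : ℂ} (hz : MemLocalRing M z) {c : ℤ}
    (hc : c = 0 ∨ c = 1) (h : MemLocalIdeal M (z ^ 2 - c)) : MemLocalIdeal M (z - c) := by
  have hMp := hM.2.1.isPrime
  have hMt := isPModular_ne_top hM
  have h2 : MemLocalIdeal M (2 : ℂ) := by
    have := memLocalIdeal_prime hM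
    exact_mod_cast this
  have hzc : MemLocalRing M (z - c) := memLocalRing_sub hMp hz (memLocalRing_intCast hMt c)
  have hsq : MemLocalIdeal M ((z - c) * (z - c)) := by
    rcases hc with rfl | rfl
    · have : (z - ((0 : ℤ) : ℂ)) * (z - ((0 : ℤ) : ℂ)) = z ^ 2 - ((0 : ℤ) : ℂ) := by
        push_cast; ring
      rw [this]; exact h
    · have : (z - ((1 : ℤ) : ℂ)) * (z - ((1 : ℤ) : ℂ)) =
          (z ^ 2 - ((1 : ℤ) : ℂ)) - 2 * (z - ((1 : ℤ) : ℂ)) := by
        push_cast; ring
      rw [this]
      exact memLocalIdeal_sub hMp h (memLocalIdeal_mul_right hMp h2 hzc)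
  by_contra hn
  exact not_memLocalIdeal_mul hMp hzc hzc hn hn hsq

theorem omega_cnt (χ : IrrCharacter G) {cls : G → ℕ}
    (hcls : ∀ x h : G, cls (h * x * h⁻¹) = cls x) (i : ℕ) :
    omega (χ : G → ℂ) (fun g => ((cnt cls i g : ℤ) : ℂ)) =
      omega (χ : G → ℂ) (tyInd cls i) ^ 2 := by
  have h1 : (fun g => ((cnt cls i g : ℤ) : ℂ)) = conv (tyInd cls i) (tyInd cls i) := by
    funext g
    rw [conv_tyInd]
    push_cast
    rfl
  rw [h1, omega_conv χ.2 (isClassFunction_tyInd hcls i), sq]

theorem cnt_int_conj {cls : G → ℕ} (hcls : ∀ x h : G, cls (h * x * h⁻¹) = cls x) (i : ℕ)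
    (x h : G) : ((cnt cls i (h * x * h⁻¹) : ℕ) : ℤ) = (cnt cls i x : ℤ) := by
  rw [cnt_conj hcls]

/-- **The criterion.** -/
theorem sameBlock_of_counts [DecidableEq G] (hM : IsPModular 2 M) (cls : G → ℕ) (ev : Finset ℕ)
    (c : ℕ → ℤ)
    (hcls : ∀ x h : G, cls (h * x * h⁻¹) = cls x)
    (h0 : ∀ g : G, cls g = 0 ↔ g = 1) (h0ev : 0 ∈ ev)
    (hsingle : ∀ t ∈ ev, ∀ x y : G, cls x = t → cls y = t → IsConj x y)
    (hodd : ∀ x : G, cls x ∉ ev → ¬ 2 ∣ Nat.card (Subgroup.centralizer ({x} : Set G)))
    (hc : ∀ i ∈ ev, c i = 0 ∨ c i = 1)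
    (hpar : ∀ i ∈ ev, i ≠ 0 → ∀ g : G, cls g ∈ ev →
      (2 : ℤ) ∣ (cnt cls i g : ℤ) - (if g = 1 then c i else 0))
    (i₁ i₂ : ℕ) (hsing : ∀ x : G, cls x = i₁ ∨ cls x = i₂ → 2 ∣ orderOf x)
    (hpar12 : ∀ g : G,
      (2 : ℤ) ∣ ((cnt cls i₁ g : ℤ) + (cnt cls i₂ g : ℤ)) - (if g = 1 then 1 else 0))
    (χ ψ : IrrCharacter G) : SameBlock M (χ : G → ℂ) (ψ : G → ℂ) := by
  classical
  have hMp := hM.2.1.isPrime
  have hMt := isPModular_ne_top hM
  haveI : Fact (Nat.Prime 2) := ⟨Nat.prime_two⟩
  -- Step A: no character of 2-defect zero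
  have hA : ∀ θ : IrrCharacter G,
      ¬ 2 ^ (Nat.card G).factorization 2 ∣ charDegree (θ : G → ℂ) := by
    intro θ hdz
    have hvan : ∀ g : G, 2 ∣ orderOf g → (θ : G → ℂ) g = 0 := fun g hg =>
      irr_eq_zero_of_pow_dvd_degree 2 θ hdz hg
    have hz : ∀ i, i = i₁ ∨ i = i₂ → omega (θ : G → ℂ) (tyInd cls i) = 0 := by
      intro i hi
      unfold omega
      rw [Finset.sum_eq_zero, zero_div]
      intro g _
      unfold tyInd
      by_cases hg : cls g = i
      · rw [hvan g (hsing g (by rcases hi with rfl | rfl; exact Or.inl hg; exact Or.inr hg)),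
          mul_zero]
      · rw [if_neg hg, zero_mul]
    have hne := omega_ne_zero_of_parity hM θ
      (fun g => (cnt cls i₁ g : ℤ) + (cnt cls i₂ g : ℤ))
      (fun x h => by rw [cnt_conj hcls, cnt_conj hcls]) hpar12
    apply hne
    have h1 : (fun g => (((cnt cls i₁ g : ℤ) + (cnt cls i₂ g : ℤ) : ℤ) : ℂ)) =
        (fun g => ((cnt cls i₁ g : ℤ) : ℂ)) + (fun g => ((cnt cls i₂ g : ℤ) : ℂ)) := by
      funext g
      simp only [Pi.add_apply]
      push_cast
      rfl
    rw [h1, omega_add, omega_cnt θ hcls, omega_cnt θ hcls, hz i₁ (Or.inl rfl), hz i₂ (Or.inr rfl)]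
    ring
  -- Step B: the central characters at the even types
  have hB : ∀ θ : IrrCharacter G, ∀ i ∈ ev, i ≠ 0 →
      MemLocalIdeal M (omega (θ : G → ℂ) (tyInd cls i) - c i) := by
    intro θ i hi hi0
    have h1 := omega_sub_mem hM θ (hA θ) (fun g => cls g ∈ ev)
      (fun x h => by rw [hcls]) hodd (fun g => (cnt cls i g : ℤ))
      (fun x h => by rw [cnt_conj hcls]) (c i) (hpar i hi hi0)
    rw [omega_cnt θ hcls] at h1
    refine memLocalIdeal_of_sq hM ?_ (hc i hi) h1
    apply memLocalRing_omega hMp θ.2 (isClassFunction_tyInd hcls i)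
    intro g
    unfold tyInd
    split_ifs
    · exact memLocalRing_one hMt
    · exact memLocalRing_zero hMt
  -- Step C: the central character at an element of even type
  have hC : ∀ θ : IrrCharacter G, ∀ g : G, cls g ∈ ev →
      centralChar (θ : G → ℂ) g = omega (θ : G → ℂ) (tyInd cls (cls g)) := by
    intro θ g hg
    rw [← omega_classIndicator (isClassFunction_irr θ.2) g]
    congr 1
    funext x
    unfold classIndicator tyInd
    have : IsConj g x ↔ cls x = cls g := by
      constructor
      · intro h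
        obtain ⟨t, ht⟩ := isConj_iff.1 h
        rw [← ht, hcls]
      · intro h
        exact hsingle _ hg g x rfl h
    by_cases hx : IsConj g x
    · rw [if_pos hx, if_pos (this.1 hx)]
    · rw [if_neg hx, if_neg (fun h' => hx (this.2 h'))]
  intro g
  by_cases hg : cls g ∈ ev
  · rw [hC χ g hg, hC ψ g hg]
    by_cases hg0 : cls g = 0
    · have hd : tyInd cls (cls g) = (deltaOne : G → ℂ) := by
        funext x
        unfold tyInd deltaOne
        rw [hg0]
        by_cases hx : x = 1
        · rw [if_pos ((h0 x).2 hx), if_pos hx]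
        · rw [if_neg (fun h' => hx ((h0 x).1 h')), if_neg hx]
      rw [hd, omega_deltaOne (irr_apply_one_ne_zero χ.2),
        omega_deltaOne (irr_apply_one_ne_zero ψ.2), sub_self]
      exact memLocalIdeal_zero hMt
    · have e : omega (χ : G → ℂ) (tyInd cls (cls g)) - omega (ψ : G → ℂ) (tyInd cls (cls g)) =
          (omega (χ : G → ℂ) (tyInd cls (cls g)) - c (cls g)) -
          (omega (ψ : G → ℂ) (tyInd cls (cls g)) - c (cls g)) := by ring
      rw [e]
      exact memLocalIdeal_sub hMp (hB χ _ hg hg0) (hB ψ _ hg hg0)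
  · exact memLocalIdeal_sub hMp (memLocalIdeal_centralChar_of_odd hM χ (hA χ) (hodd g hg))
      (memLocalIdeal_centralChar_of_odd hM ψ (hA ψ) (hodd g hg))

end Theory

end Cfsg.Agent.Lib.Helper4.M22B
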