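import Cfsg.Agent.Lib.Helper4.M22B.D1
import Cfsg.Agent.Lib.Helper4.M22B.D2
import Cfsg.Agent.Lib.Helper4.M22B.D3
import Cfsg.Agent.Lib.Helper4.M22B.D4
import Cfsg.Agent.Lib.Helper4.M22B.D5
import Cfsg.Agent.Lib.Helper4.M22B.D6
import Cfsg.Agent.Lib.Helper4.M22B.D7
import Cfsg.Agent.Lib.Helper4.M22B.D8
import Cfsg.Agent.Lib.Helper4.M22B.D9
import Cfsg.Agent.Lib.Helper4.M22B.D10
import Cfsg.Agent.Lib.Helper4.M22B.D11
import Cfsg.Agent.Lib.Helper4.M22B.ClassData
import Cfsg.Agent.Lib.Helper4.M22B.Sorts
import Cfsg.Agent.Lib.Helper4.M22B.Theory

/-!
# M22: the conjugacy classes, from the class data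
-/

set_option autoImplicit false
set_option maxRecDepth 100000

namespace Cfsg.Agent.Lib.Helper4.M22B

open Cfsg Cfsg.Agent.Lib.Helper1 Cfsg.Agent.Lib.Helper1.PermCode Cfsg.Agent.Lib.Helper1.MatCode

/-! ### the representatives are in the group -/

theorem chk0 : chkM22 tab0 rep0 = true := by decide +kernel
theorem chk1 : chkM22 tab1 rep1 = true := by decide +kernel
theorem chk2 : chkM22 tab2 rep2 = true := by decide +kernel
theorem chk3 : chkM22 tab3 rep3 = true := by decide +kernel
theorem chk4 : chkM22 tab4 rep4 = true := by decide +kernel
theorem chk5 : chkM22 tab5 rep5 = true := by decide +kernel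
theorem chk6 : chkM22 tab6 rep6 = true := by decide +kernel
theorem chk7 : chkM22 tab7 rep7 = true := by decide +kernel
theorem chk8 : chkM22 tab8 rep8 = true := by decide +kernel
theorem chk9 : chkM22 tab9 rep9 = true := by decide +kernel
theorem chk10 : chkM22 tab10 rep10 = true := by decide +kernel
theorem chk11 : chkM22 tab11 rep11 = true := by decide +kernel

/-- class 0: the identity -/
def C0 : ClassData where
  rep := rep0
  R := R0
  chunks := []
  results := []
  g := gOfChk chk0
  hcode := isCode_gOfChk chk0
  hres := rfl
  hfuel := by intro ch h; simp at h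

/-- class 1 -/
def C1 : ClassData where
  rep := rep1
  R := R1
  chunks := chunks1
  results := results1
  g := gOfChk chk1
  hcode := isCode_gOfChk chk1
  hres := hres1
  hfuel := hfuel1

/-- class 2 -/
def C2 : ClassData where
  rep := rep2
  R := R2
  chunks := chunks2
  results := results2
  g := gOfChk chk2
  hcode := isCode_gOfChk chk2
  hres := hres2
  hfuel := hfuel2

/-- class 3 -/
def C3 : ClassData where
  rep := rep3
  R := R3
  chunks := chunks3
  results := results3
  g := gOfChk chk3
  hcode := isCode_gOfChk chk3
  hres := hres3
  hfuel := hfuel3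

/-- class 4 -/
def C4 : ClassData where
  rep := rep4
  R := R4
  chunks := chunks4
  results := results4
  g := gOfChk chk4
  hcode := isCode_gOfChk chk4
  hres := hres4
  hfuel := hfuel4

/-- class 5 -/
def C5 : ClassData where
  rep := rep5
  R := R5
  chunks := chunks5
  results := results5
  g := gOfChk chk5
  hcode := isCode_gOfChk chk5
  hres := hres5
  hfuel := hfuel5

/-- class 6 -/
def C6 : ClassData where
  rep := rep6
  R := R6
  chunks := chunks6
  results := results6
  g := gOfChk chk6
  hcode := isCode_gOfChk chk6
  hres := hres6
  hfuel := hfuel6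

/-- class 7 -/
def C7 : ClassData where
  rep := rep7
  R := R7
  chunks := chunks7
  results := results7
  g := gOfChk chk7
  hcode := isCode_gOfChk chk7
  hres := hres7
  hfuel := hfuel7

/-- class 8 -/
def C8 : ClassData where
  rep := rep8
  R := R8
  chunks := chunks8
  results := results8
  g := gOfChk chk8
  hcode := isCode_gOfChk chk8
  hres := hres8
  hfuel := hfuel8

/-- class 9 -/
def C9 : ClassData where
  rep := rep9
  R := R9
  chunks := chunks9
  results := results9
  g := gOfChk chk9
  hcode := isCode_gOfChk chk9
  hres := hres9
  hfuel := hfuel9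

/-- class 10 -/
def C10 : ClassData where
  rep := rep10
  R := R10
  chunks := chunks10
  results := results10
  g := gOfChk chk10
  hcode := isCode_gOfChk chk10
  hres := hres10
  hfuel := hfuel10

/-- class 11 -/
def C11 : ClassData where
  rep := rep11
  R := R11
  chunks := chunks11
  results := results11
  g := gOfChk chk11
  hcode := isCode_gOfChk chk11
  hres := hres11
  hfuel := hfuel11

/-! ### the types of the representatives -/

theorem ty0 : clsC rep0 = 0 := by decide +kernel
theorem ty1 : clsC rep1 = 1 := by decide +kernel
theorem ty2 : clsC rep2 = 2 := by decide +kernel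
theorem ty3 : clsC rep3 = 3 := by decide +kernel
theorem ty4 : clsC rep4 = 4 := by decide +kernel
theorem ty5 : clsC rep5 = 5 := by decide +kernel
theorem ty6 : clsC rep6 = 6 := by decide +kernel
theorem ty7 : clsC rep7 = 7 := by decide +kernel
theorem ty8 : clsC rep8 = 7 := by decide +kernel
theorem ty9 : clsC rep9 = 8 := by decide +kernel
theorem ty10 : clsC rep10 = 9 := by decide +kernel
theorem ty11 : clsC rep11 = 9 := by decide +kernel

/-! ### the numbers of elements -/

theorem len0 : C0.KL.length = 1 := rfl
theorem len1 : C1.KL.length = 1155 := by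
  show (keyList rep1 results1 30000).length = 1155
  rw [keyList_length rep1 results1 30000 [1154] (by decide) (by decide +kernel)]
  norm_num [List.sum_cons, List.sum_nil]
theorem len2 : C2.KL.length = 12320 := by
  show (keyList rep2 results2 30000).length = 12320
  rw [keyList_length rep2 results2 30000 [6000, 6000, 319] (by decide) (by decide +kernel)]
  norm_num [List.sum_cons, List.sum_nil]
theorem len3 : C3.KL.length = 13860 := by
  show (keyList rep3 results3 30000).length = 13860
  rw [keyList_length rep3 results3 30000 [1800, 1800, 1800, 1800, 1800, 1800, 1800, 1259] (by decide) (by decide +kernel)]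
  norm_num [List.sum_cons, List.sum_nil]
theorem len4 : C4.KL.length = 27720 := by
  show (keyList rep4 results4 30000).length = 27720
  rw [keyList_length rep4 results4 30000 [6000, 6000, 6000, 6000, 3719] (by decide) (by decide +kernel)]
  norm_num [List.sum_cons, List.sum_nil]
theorem len5 : C5.KL.length = 88704 := by
  show (keyList rep5 results5 30000).length = 88704
  rw [keyList_length rep5 results5 30000 [12000, 12000, 12000, 12000, 12000, 12000, 12000, 4703] (by decide) (by decide +kernel)]
  norm_num [List.sum_cons, List.sum_nil]
theorem len6 : C6.KL.length = 36960 := by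
  show (keyList rep6 results6 30000).length = 36960
  rw [keyList_length rep6 results6 30000 [6000, 6000, 6000, 6000, 6000, 6000, 959] (by decide) (by decide +kernel)]
  norm_num [List.sum_cons, List.sum_nil]
theorem len7 : C7.KL.length = 63360 := by
  show (keyList rep7 results7 30000).length = 63360
  rw [keyList_length rep7 results7 30000 [12000, 12000, 12000, 12000, 12000, 3359] (by decide) (by decide +kernel)]
  norm_num [List.sum_cons, List.sum_nil]
theorem len8 : C8.KL.length = 63360 := by
  show (keyList rep8 results8 30000).length = 63360
  rw [keyList_length rep8 results8 30000 [12000, 12000, 12000, 12000, 12000, 3359] (by decide) (by decide +kernel)]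
  norm_num [List.sum_cons, List.sum_nil]
theorem len9 : C9.KL.length = 55440 := by
  show (keyList rep9 results9 30000).length = 55440
  rw [keyList_length rep9 results9 30000 [6000, 6000, 6000, 6000, 6000, 6000, 6000, 6000, 6000, 1439] (by decide) (by decide +kernel)]
  norm_num [List.sum_cons, List.sum_nil]
theorem len10 : C10.KL.length = 40320 := by
  show (keyList rep10 results10 30000).length = 40320
  rw [keyList_length rep10 results10 30000 [12000, 12000, 12000, 4319] (by decide) (by decide +kernel)]
  norm_num [List.sum_cons, List.sum_nil]
theorem len11 : C11.KL.length = 40320 := by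
  show (keyList rep11 results11 30000).length = 40320
  rw [keyList_length rep11 results11 30000 [12000, 12000, 12000, 4319] (by decide) (by decide +kernel)]
  norm_num [List.sum_cons, List.sum_nil]

/-! ### no repetition among the keys -/

theorem nodupK0 : C0.KL.Nodup := nodupKL0
theorem nodupK1 : C1.KL.Nodup := nodupKL1
theorem nodupK2 : C2.KL.Nodup := nodupKL2
theorem nodupK3 : C3.KL.Nodup := nodupKL3
theorem nodupK4 : C4.KL.Nodup := nodupKL4
theorem nodupK5 : C5.KL.Nodup := nodupKL5
theorem nodupK6 : C6.KL.Nodup := nodupKL6
theorem nodupK9 : C9.KL.Nodup := nodupKL9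
theorem nodupK7 : (C7.KL ++ C8.KL).Nodup := nodupKL78
theorem nodupK10 : (C10.KL ++ C11.KL).Nodup := nodupKL1011

end Cfsg.Agent.Lib.Helper4.M22B
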