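import Cfsg.Agent.Lib.Helper4.M22B.Classes1

/-!
# M22: the partition of the group into the class lists
-/

set_option autoImplicit false
set_option maxRecDepth 100000

namespace Cfsg.Agent.Lib.Helper4.M22B

open Cfsg Cfsg.Agent.Lib.Helper1 Cfsg.Agent.Lib.Helper1.PermCode Cfsg.Agent.Lib.Helper1.MatCode

/-- the lists of codes, by type -/
def blocks : List (List ℕ) :=
  [C0.L, C1.L, C2.L, C3.L, C4.L, C5.L, C6.L, C7.L ++ C8.L, C9.L, C10.L ++ C11.L]

theorem nodupC (C : ClassData) (h : C.KL.Nodup) : C.L.Nodup :=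
  List.Nodup.of_map key (C.keys_perm.nodup_iff.2 h)

theorem nodupC2 (C C' : ClassData) (h : (C.KL ++ C'.KL).Nodup) : (C.L ++ C'.L).Nodup := by
  refine List.Nodup.of_map key ?_
  rw [List.map_append]
  exact (C.keys_perm.append C'.keys_perm).nodup_iff.2 h

theorem block_nodup : ∀ l ∈ blocks, l.Nodup := by
  intro l hl
  simp only [blocks, List.mem_cons, List.not_mem_nil, or_false] at hl
  rcases hl with rfl | rfl | rfl | rfl | rfl | rfl | rfl | rfl | rfl | rfl
  · exact nodupC C0 nodupK0
  · exact nodupC C1 nodupK1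
  · exact nodupC C2 nodupK2
  · exact nodupC C3 nodupK3
  · exact nodupC C4 nodupK4
  · exact nodupC C5 nodupK5
  · exact nodupC C6 nodupK6
  · exact nodupC2 C7 C8 nodupK7
  · exact nodupC C9 nodupK9
  · exact nodupC2 C10 C11 nodupK10

theorem block_label : ∀ i (hi : i < blocks.length), ∀ c ∈ blocks[i], clsC c = i := by
  intro i hi c hc
  have hi' : i < 10 := hi
  interval_cases i
  · exact (C0.cls_eq c hc).trans ty0
  · exact (C1.cls_eq c hc).trans ty1
  · exact (C2.cls_eq c hc).trans ty2
  · exact (C3.cls_eq c hc).trans ty3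
  · exact (C4.cls_eq c hc).trans ty4
  · exact (C5.cls_eq c hc).trans ty5
  · exact (C6.cls_eq c hc).trans ty6
  · rcases List.mem_append.1 hc with h | h
    · exact (C7.cls_eq c h).trans ty7
    · exact (C8.cls_eq c h).trans ty8
  · exact (C9.cls_eq c hc).trans ty9
  · rcases List.mem_append.1 hc with h | h
    · exact (C10.cls_eq c h).trans ty10
    · exact (C11.cls_eq c h).trans ty11

theorem blocks_nodup : blocks.flatten.Nodup :=
  nodup_flatten_of_labels blocks clsC block_nodup block_label

theorem blocks_valid : Valid blocks.flatten := by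
  intro c hc
  rw [List.mem_flatten] at hc
  obtain ⟨l, hl, hcl⟩ := hc
  simp only [blocks, List.mem_cons, List.not_mem_nil, or_false] at hl
  rcases hl with rfl | rfl | rfl | rfl | rfl | rfl | rfl | rfl | rfl | rfl
  · exact C0.valid c hcl
  · exact C1.valid c hcl
  · exact C2.valid c hcl
  · exact C3.valid c hcl
  · exact C4.valid c hcl
  · exact C5.valid c hcl
  · exact C6.valid c hcl
  · exact (C7.valid.append C8.valid) c hcl
  · exact C9.valid c hcl
  · exact (C10.valid.append C11.valid) c hcl

theorem blocks_len : blocks.flatten.length = 443520 := by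
  simp only [blocks, List.length_flatten, List.map_cons, List.map_nil, List.sum_cons, List.sum_nil,
    List.length_append, ClassData.length_eq, len0, len1, len2, len3, len4, len5, len6, len7, len8,
    len9, len10, len11]
  norm_num

theorem covered (g : GG) : cd g ∈ blocks.flatten :=
  cd_mem_of_length _ blocks_nodup blocks_valid blocks_len g

theorem mem_block (g : GG) : ∃ (i : ℕ) (hi : i < blocks.length), cd g ∈ blocks[i] ∧ cls g = i := by
  obtain ⟨l, hl, hc⟩ := List.mem_flatten.1 (covered g)
  obtain ⟨i, hi, rfl⟩ := List.getElem_of_mem hl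
  refine ⟨i, hi, hc, ?_⟩
  rw [cls_eq]
  exact block_label i hi _ hc

theorem cls_lt (g : GG) : cls g < 10 := by
  obtain ⟨i, hi, _, h⟩ := mem_block g
  rw [h]; exact hi

theorem mem_of_cls {g : GG} {t : ℕ} (ht : t < blocks.length) (h : cls g = t) :
    cd g ∈ blocks[t] := by
  obtain ⟨i, hi, hc, h'⟩ := mem_block g
  have : i = t := by rw [← h', h]
  subst this
  exact hc

/-! ### the even types -/

/-- the even types: `1A, 2A, 3A, 4A, 4B, 6A, 8A` -/
def ev : Finset ℕ := {0, 1, 2, 3, 4, 6, 8}

/-- the class data of an even type -/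
def evC (t : ℕ) : ClassData :=
  match t with
  | 0 => C0
  | 1 => C1
  | 2 => C2
  | 3 => C3
  | 4 => C4
  | 6 => C6
  | 8 => C9
  | _ => C0

theorem ev_cases {t : ℕ} (ht : t ∈ ev) : t = 0 ∨ t = 1 ∨ t = 2 ∨ t = 3 ∨ t = 4 ∨ t = 6 ∨ t = 8 := by
  simpa [ev] using ht

theorem ev_lt {t : ℕ} (ht : t ∈ ev) : t < 10 := by
  rcases ev_cases ht with rfl | rfl | rfl | rfl | rfl | rfl | rfl <;> norm_num

theorem ev_mem_L {g : GG} {t : ℕ} (ht : t ∈ ev) (h : cls g = t) : cd g ∈ (evC t).L := by
  have := mem_of_cls (t := t) (ev_lt ht) h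
  rcases ev_cases ht with rfl | rfl | rfl | rfl | rfl | rfl | rfl <;> exact this

theorem evC_type {t : ℕ} (ht : t ∈ ev) : clsC (evC t).rep = t := by
  rcases ev_cases ht with rfl | rfl | rfl | rfl | rfl | rfl | rfl
  · exact ty0
  · exact ty1
  · exact ty2
  · exact ty3
  · exact ty4
  · exact ty6
  · exact ty9

theorem ev_cls_of_mem {g : GG} {t : ℕ} (ht : t ∈ ev) (h : cd g ∈ (evC t).L) : cls g = t := by
  rw [cls_eq, (evC t).cls_eq _ h, evC_type ht]

theorem evC_nodup {t : ℕ} (ht : t ∈ ev) : (evC t).L.Nodup := by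
  rcases ev_cases ht with rfl | rfl | rfl | rfl | rfl | rfl | rfl
  · exact nodupC C0 nodupK0
  · exact nodupC C1 nodupK1
  · exact nodupC C2 nodupK2
  · exact nodupC C3 nodupK3
  · exact nodupC C4 nodupK4
  · exact nodupC C6 nodupK6
  · exact nodupC C9 nodupK9

theorem ev_conj {g : GG} {t : ℕ} (ht : t ∈ ev) (h : cls g = t) : IsConj (evC t).g g :=
  (evC t).isConj_of_mem (ev_mem_L ht h)

theorem cls_evC_g {t : ℕ} (ht : t ∈ ev) : cls (evC t).g = t :=
  ev_cls_of_mem ht (evC t).mem_of_isConj_rep

/-- the number of elements of an even type -/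
def nT (t : ℕ) : ℕ :=
  match t with
  | 0 => 1
  | 1 => 1155
  | 2 => 12320
  | 3 => 13860
  | 4 => 27720
  | 6 => 36960
  | 8 => 55440
  | _ => 1

theorem evC_length {t : ℕ} (ht : t ∈ ev) : (evC t).L.length = nT t := by
  rw [ClassData.length_eq]
  rcases ev_cases ht with rfl | rfl | rfl | rfl | rfl | rfl | rfl
  · exact len0
  · exact len1
  · exact len2
  · exact len3
  · exact len4
  · exact len6
  · exact len9

theorem card_type {t : ℕ} (ht : t ∈ ev) :
    (Finset.univ.filter (fun g : GG => cls g = t)).card = nT t := by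
  classical
  have h1 : Finset.univ.filter (fun g : GG => cls g = t) =
      Finset.univ.filter (fun g : GG => cd g ∈ (evC t).L) := by
    ext g
    simp only [Finset.mem_filter, Finset.mem_univ, true_and]
    exact ⟨ev_mem_L ht, ev_cls_of_mem ht⟩
  rw [h1, card_cd_mem _ (evC_nodup ht) (evC t).valid, evC_length ht]

theorem cls_one : cls (1 : GG) = 0 := by
  rw [cls_eq, cd_one]
  decide +kernel

theorem cls_eq_zero_iff (g : GG) : cls g = 0 ↔ g = 1 := by
  constructor
  · intro h
    have hm : cd g ∈ C0.L := ev_mem_L (t := 0) (by decide) h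
    have h1 : C0.L = [rep0] := rfl
    rw [h1, List.mem_singleton] at hm
    apply cd_injective
    rw [hm, cd_one]
    decide +kernel
  · rintro rfl
    exact cls_one

end Cfsg.Agent.Lib.Helper4.M22B
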