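import Cfsg.Agent.Lib.Helper4.M22B.Classes2
import Cfsg.Agent.Lib.Helper1.ConjCount
import Cfsg.Agent.Lib.Helper1.CharFound8

/-!
# M22: centralizers of the elements of odd type, orders, inverses
-/

set_option autoImplicit false
set_option maxRecDepth 100000

namespace Cfsg.Agent.Lib.Helper4.M22B

open Cfsg Cfsg.Agent.Lib.Helper1 Cfsg.Agent.Lib.Helper1.PermCode Cfsg.Agent.Lib.Helper1.MatCode

/-- powers on codes -/
def powC (c : ℕ) : ℕ → ℕ
  | 0 => pc1
  | n + 1 => pmu2 (powC c n) c

theorem IsCode.powC {c : ℕ} {g : GG} (h : IsCode c g) (n : ℕ) : IsCode (powC c n) (g ^ n) := by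
  induction n with
  | zero => rw [pow_zero]; exact isCode_one
  | succ n ih => rw [pow_succ]; exact ih.mul h

theorem pow_eq_one_of_powC {c : ℕ} {g : GG} (h : IsCode c g) {n : ℕ} (hn : powC c n = pc1) :
    g ^ n = 1 := by
  have := h.powC n
  rw [hn] at this
  exact this.elt_unique isCode_one

theorem pow_ne_one_of_powC {c : ℕ} {g : GG} (h : IsCode c g) {n : ℕ} (hn : powC c n ≠ pc1) :
    g ^ n ≠ 1 := by
  intro h1
  apply hn
  have := h.powC n
  rw [h1] at this
  exact this.code_unique isCode_one

/-- the centralizer of the representative of a class with `|G| / p` elements, `p` a prime, when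
the representative has order `p` -/
theorem card_centralizer_of_class (C : ClassData) (p : ℕ) (hp : p.Prime) (hnd : C.L.Nodup)
    (hlen : C.L.length * p = 443520) (hpow : powC C.rep p = pc1) (hne : powC C.rep 1 ≠ pc1) :
    Nat.card (Subgroup.centralizer ({C.g} : Set GG)) = p := by
  classical
  have : Fact p.Prime := ⟨hp⟩
  have h1 : C.g ^ p = 1 := pow_eq_one_of_powC C.hcode hpow
  have h2 : C.g ≠ 1 := by
    have := pow_ne_one_of_powC C.hcode hne
    rwa [pow_one] at this
  have hord : orderOf C.g = p := orderOf_eq_prime h1 h2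
  have hmem : C.g ∈ Subgroup.centralizer ({C.g} : Set GG) := by
    rw [Subgroup.mem_centralizer_singleton_iff]
  have hdvd : p ∣ Nat.card (Subgroup.centralizer ({C.g} : Set GG)) := by
    have := orderOf_dvd_natCard (⟨C.g, hmem⟩ : Subgroup.centralizer ({C.g} : Set GG))
    rwa [Subgroup.orderOf_mk, hord] at this
  have hcl : C.L.length ≤ Nat.card {v : GG // IsConj C.g v} := by
    rw [← card_cd_mem C.L hnd C.valid, Nat.card_eq_fintype_card, Fintype.card_subtype]
    apply Finset.card_le_card
    intro x hx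
    simp only [Finset.mem_filter, Finset.mem_univ, true_and] at hx ⊢
    exact C.isConj_of_mem hx
  have hmul := card_isConj_mul_card_centralizer C.g
  rw [card_M22] at hmul
  have hpos : 0 < Nat.card (Subgroup.centralizer ({C.g} : Set GG)) := Nat.card_pos
  obtain ⟨m, hm⟩ := hdvd
  have hLpos : 0 < C.L.length := by
    rcases Nat.eq_zero_or_pos C.L.length with h | h
    · rw [h] at hlen; omega
    · exact h
  have hle : C.L.length * Nat.card (Subgroup.centralizer ({C.g} : Set GG)) ≤ C.L.length * p := by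
    rw [hlen, ← hmul]
    exact Nat.mul_le_mul_right _ hcl
  have hle2 := Nat.le_of_mul_le_mul_left hle hLpos
  rw [hm] at hle2 hpos ⊢
  have hm1 : m = 1 := by
    have hp0 : 0 < p := hp.pos
    rcases Nat.lt_or_ge m 1 with h | h
    · have : m = 0 := by omega
      rw [this, mul_zero] at hpos
      omega
    · have : p * m ≤ p * 1 := by rw [mul_one]; exact hle2
      have := Nat.le_of_mul_le_mul_left this hp0
      omega
  rw [hm1, mul_one]

theorem odd_centralizer_of_isConj {g x : GG} {p : ℕ} (h : IsConj g x)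
    (hc : Nat.card (Subgroup.centralizer ({g} : Set GG)) = p) (hp : ¬ 2 ∣ p) :
    ¬ 2 ∣ Nat.card (Subgroup.centralizer ({x} : Set GG)) := by
  rw [← card_centralizer_eq_of_isConj h, hc]
  exact hp

theorem two_dvd_orderOf_of_pow {g : GG} {m : ℕ} (h1 : g ^ (2 * m) = 1) (h2 : g ^ m ≠ 1) :
    2 ∣ orderOf g := by
  by_contra hcon
  have hd : orderOf g ∣ 2 * m := orderOf_dvd_of_pow_eq_one h1
  have hcop : Nat.Coprime (orderOf g) 2 := by
    rw [Nat.coprime_comm]
    exact (Nat.Prime.coprime_iff_not_dvd Nat.prime_two).2 hcon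
  have := hcop.dvd_of_dvd_mul_left hd
  exact h2 (orderOf_dvd_iff_pow_eq_one.1 this)

theorem orderOf_of_isConj {g x : GG} (h : IsConj g x) : orderOf x = orderOf g := by
  obtain ⟨t, ht⟩ := isConj_iff.1 h
  rw [← ht]
  exact orderOf_injective (MulAut.conj t).toMonoidHom (MulAut.conj t).injective g

end Cfsg.Agent.Lib.Helper4.M22B
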