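import Cfsg.Agent.Lib.Helper4.M22B.Classes3

/-!
# M22: the counts, and the single 2-block
-/

set_option autoImplicit false
set_option maxRecDepth 100000

namespace Cfsg.Agent.Lib.Helper4.M22B

open Cfsg Cfsg.Agent.Lib.Helper1 Cfsg.Agent.Lib.Helper1.PermCode Cfsg.Agent.Lib.Helper1.MatCode

/-! ### the elements of odd type -/

theorem nodup7 : C7.L.Nodup := (List.nodup_append.1 (nodupC2 C7 C8 nodupK7)).1
theorem nodup8 : C8.L.Nodup := (List.nodup_append.1 (nodupC2 C7 C8 nodupK7)).2.1
theorem nodup10 : C10.L.Nodup := (List.nodup_append.1 (nodupC2 C10 C11 nodupK10)).1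
theorem nodup11 : C11.L.Nodup := (List.nodup_append.1 (nodupC2 C10 C11 nodupK10)).2.1

theorem cent5 : Nat.card (Subgroup.centralizer ({C5.g} : Set GG)) = 5 :=
  card_centralizer_of_class C5 5 (by norm_num) (nodupC C5 nodupK5)
    (by rw [ClassData.length_eq, len5]) (by decide +kernel) (by decide +kernel)

theorem cent7 : Nat.card (Subgroup.centralizer ({C7.g} : Set GG)) = 7 :=
  card_centralizer_of_class C7 7 (by norm_num) nodup7
    (by rw [ClassData.length_eq, len7]) (by decide +kernel) (by decide +kernel)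

theorem cent8 : Nat.card (Subgroup.centralizer ({C8.g} : Set GG)) = 7 :=
  card_centralizer_of_class C8 7 (by norm_num) nodup8
    (by rw [ClassData.length_eq, len8]) (by decide +kernel) (by decide +kernel)

theorem cent10 : Nat.card (Subgroup.centralizer ({C10.g} : Set GG)) = 11 :=
  card_centralizer_of_class C10 11 (by norm_num) nodup10
    (by rw [ClassData.length_eq, len10]) (by decide +kernel) (by decide +kernel)

theorem cent11 : Nat.card (Subgroup.centralizer ({C11.g} : Set GG)) = 11 :=
  card_centralizer_of_class C11 11 (by norm_num) nodup11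
    (by rw [ClassData.length_eq, len11]) (by decide +kernel) (by decide +kernel)

/-- an element of odd type is conjugate to one of the five representatives of odd type -/
theorem odd_conj {x : GG} (hx : cls x ∉ ev) :
    IsConj C5.g x ∨ IsConj C7.g x ∨ IsConj C8.g x ∨ IsConj C10.g x ∨ IsConj C11.g x := by
  have hlt := cls_lt x
  have hm := mem_of_cls (g := x) (t := cls x) hlt rfl
  generalize cls x = t at hx hlt hm
  have hlt' : t < 10 := hlt
  interval_cases t
  · exact absurd (by decide) hx
  · exact absurd (by decide) hx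
  · exact absurd (by decide) hx
  · exact absurd (by decide) hx
  · exact absurd (by decide) hx
  · exact Or.inl (C5.isConj_of_mem hm)
  · exact absurd (by decide) hx
  · rcases List.mem_append.1 hm with h | h
    · exact Or.inr (Or.inl (C7.isConj_of_mem h))
    · exact Or.inr (Or.inr (Or.inl (C8.isConj_of_mem h)))
  · exact absurd (by decide) hx
  · rcases List.mem_append.1 hm with h | h
    · exact Or.inr (Or.inr (Or.inr (Or.inl (C10.isConj_of_mem h))))
    · exact Or.inr (Or.inr (Or.inr (Or.inr (C11.isConj_of_mem h))))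

theorem hodd (x : GG) (hx : cls x ∉ ev) :
    ¬ 2 ∣ Nat.card (Subgroup.centralizer ({x} : Set GG)) := by
  rcases odd_conj hx with h | h | h | h | h
  · exact odd_centralizer_of_isConj h cent5 (by norm_num)
  · exact odd_centralizer_of_isConj h cent7 (by norm_num)
  · exact odd_centralizer_of_isConj h cent8 (by norm_num)
  · exact odd_centralizer_of_isConj h cent10 (by norm_num)
  · exact odd_centralizer_of_isConj h cent11 (by norm_num)

/-! ### orders and inverses for the types 1 and 3 -/

theorem hsing (x : GG) (hx : cls x = 1 ∨ cls x = 3) : 2 ∣ orderOf x := by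
  rcases hx with hx | hx
  · have hc : IsConj C1.g x := ev_conj (t := 1) (by decide) hx
    rw [orderOf_of_isConj hc]
    exact two_dvd_orderOf_of_pow (m := 1)
      (pow_eq_one_of_powC C1.hcode (by decide +kernel))
      (pow_ne_one_of_powC C1.hcode (by decide +kernel))
  · have hc : IsConj C3.g x := ev_conj (t := 3) (by decide) hx
    rw [orderOf_of_isConj hc]
    exact two_dvd_orderOf_of_pow (m := 2)
      (pow_eq_one_of_powC C3.hcode (by decide +kernel))
      (pow_ne_one_of_powC C3.hcode (by decide +kernel))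

/-- the code of the inverse of the representative of class 1 -/
def irep1 : ℕ := 956770009283533158890859237102212800
/-- the code of the inverse of the representative of class 3 -/
def irep3 : ℕ := 962401927766949547891304556710549184

theorem inv_closed_of (C : ClassData) (t : ℕ) (ht : t ∈ ev) (hC : evC t = C) (ic : ℕ)
    (h1 : pmu2 ic pc1 = ic) (h2 : pmu2 C.rep ic = pc1) (h3 : clsC ic = t) :
    ∀ x : GG, cls x = t → cls x⁻¹ = t := by
  intro x hx
  have hc : IsConj C.g x := hC ▸ ev_conj ht hx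
  obtain ⟨s, hs⟩ := isConj_iff.1 hc
  have hi : IsCode ic C.g⁻¹ := C.hcode.inv_of_mul (canon_of_pmu2_pc1 h1) h2
  have e : x⁻¹ = s * C.g⁻¹ * s⁻¹ := by rw [← hs]; group
  rw [e, cls_conj, cls_of_isCode hi, h3]

theorem inv_closed1 : ∀ x : GG, cls x = 1 → cls x⁻¹ = 1 :=
  inv_closed_of C1 1 (by decide) rfl irep1 (by decide +kernel) (by decide +kernel)
    (by decide +kernel)

theorem inv_closed3 : ∀ x : GG, cls x = 3 → cls x⁻¹ = 3 :=
  inv_closed_of C3 3 (by decide) rfl irep3 (by decide +kernel) (by decide +kernel)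
    (by decide +kernel)

/-! ### the counts -/

/-- the tally of class `i` against the `j`-th code of its list `R` -/
def eT (i j : ℕ) : ℕ :=
  2 ^ (17 * clsC (pmu2 (evC i).rep ((evC i).R.getD j 0))) +
    ((evC i).results.map fun r => r.2.getD j 0).sum

/-- the number of `x` of type `i` with `x * ρ` of type `t`, `ρ` the `j`-th code of `R` -/
def aT (i j t : ℕ) : ℕ := dig (2 ^ 17) (eT i j) t

theorem nT_lt {i : ℕ} : nT i < 2 ^ 17 := by
  unfold nT
  split <;> norm_num

theorem bcnt_eq_aT {i : ℕ} (hi : i ∈ ev) (j : ℕ) (hj : j < (evC i).R.length) (gρ : GG)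
    (hρ : IsCode ((evC i).R.getD j 0) gρ) (t : ℕ) (ht : t < 10) :
    bcnt cls i t gρ = aT i j t := by
  classical
  unfold bcnt aT eT
  rw [← (evC i).tally j hj, ← countP_eq_dig _ _ (by rw [evC_length hi]; exact nT_lt) t ht,
    ← card_filter_cd _ (evC_nodup hi) (evC i).valid]
  congr 1
  ext x
  simp only [Finset.mem_filter, Finset.mem_univ, true_and, decide_eq_true_eq]
  have e : cls (x * gρ) = clsC (pmu2 (cd x) ((evC i).R.getD j 0)) :=
    cls_of_isCode ((isCode_cd x).mul hρ)
  rw [e]
  constructor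
  · rintro ⟨h1, h2⟩
    exact ⟨ev_mem_L hi h1, h2⟩
  · rintro ⟨h1, h2⟩
    exact ⟨ev_cls_of_mem hi h1, h2⟩

theorem evC_R0 {i : ℕ} (hi : i ∈ ev) (hi0 : i ≠ 0) :
    0 < (evC i).R.length ∧ (evC i).R.getD 0 0 = (evC i).rep := by
  rcases ev_cases hi with rfl | rfl | rfl | rfl | rfl | rfl | rfl
  · exact absurd rfl hi0
  all_goals exact ⟨by decide, rfl⟩

theorem cnt_even {i t : ℕ} (hi : i ∈ ev) (hi0 : i ≠ 0) (ht : t ∈ ev) {g : GG} (hg : cls g = t) :
    nT t * cnt cls i g = nT i * aT i 0 t := by
  have h1 : cnt cls i g = cnt cls i (evC t).g := cnt_of_isConj cls_conj i (ev_conj ht hg)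
  have h2 := double_count cls_conj i t (evC i).g (evC t).g (fun x hx => ev_conj hi hx)
    (fun x hx => ev_conj ht hx)
  rw [card_type ht, card_type hi] at h2
  obtain ⟨hR, hR0⟩ := evC_R0 hi hi0
  rw [h1, h2, bcnt_eq_aT hi 0 hR (evC i).g (by rw [hR0]; exact (evC i).hcode) t (ev_lt ht)]

theorem table1 : ∀ i ∈ [1, 2, 3, 4, 6, 8], ∀ t ∈ [0, 1, 2, 3, 4, 6, 8],
    (nT i * aT i 0 t / nT t) % 2 = (if t = 0 then nT i % 2 else 0) := by decide +kernel

theorem table2 : ∀ j ∈ [1, 2, 3, 4, 5], (aT 1 j 1 + aT 3 j 3) % 2 = 0 := by decide +kernel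

theorem nT_pos (t : ℕ) : 0 < nT t := by
  unfold nT
  split <;> norm_num

theorem cnt_even_mod {i t : ℕ} (hi : i ∈ ev) (hi0 : i ≠ 0) (ht : t ∈ ev) {g : GG}
    (hg : cls g = t) : cnt cls i g % 2 = (if t = 0 then nT i % 2 else 0) := by
  have h1 := cnt_even hi hi0 ht hg
  have h2 : cnt cls i g = nT i * aT i 0 t / nT t := by
    rw [← h1, Nat.mul_div_cancel_left _ (nT_pos t)]
  rw [h2]
  apply table1
  · rcases ev_cases hi with rfl | rfl | rfl | rfl | rfl | rfl | rfl
    · exact absurd rfl hi0
    all_goals decide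
  · rcases ev_cases ht with rfl | rfl | rfl | rfl | rfl | rfl | rfl <;> decide

/-- the parities of the sizes of the classes of even type -/
def cpar (i : ℕ) : ℤ := ((nT i % 2 : ℕ) : ℤ)

theorem hpar (i : ℕ) (hi : i ∈ ev) (hi0 : i ≠ 0) (g : GG) (hg : cls g ∈ ev) :
    (2 : ℤ) ∣ (cnt cls i g : ℤ) - (if g = 1 then cpar i else 0) := by
  have h := cnt_even_mod hi hi0 hg rfl
  unfold cpar
  by_cases h1 : g = 1
  · rw [if_pos h1]
    rw [if_pos ((cls_eq_zero_iff g).2 h1)] at h
    omega
  · rw [if_neg h1]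
    rw [if_neg (fun h0 => h1 ((cls_eq_zero_iff g).1 h0))] at h
    omega

theorem R1_get : C1.R = [rep1, rep5, rep7, rep8, rep10, rep11] := rfl
theorem R3_get : C3.R = [rep3, rep5, rep7, rep8, rep10, rep11] := rfl

/-- the counts at the elements of odd type, for the types 1 and 3 -/
theorem cnt_odd {x : GG} (hx : cls x ∉ ev) : (cnt cls 1 x + cnt cls 3 x) % 2 = 0 := by
  have key : ∀ (j : ℕ) (g : GG), j ∈ [1, 2, 3, 4, 5] →
      IsCode (C1.R.getD j 0) g → IsCode (C3.R.getD j 0) g → IsConj g x →
      (cnt cls 1 x + cnt cls 3 x) % 2 = 0 := by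
    intro j g hj h1 h3 hc
    rw [cnt_of_isConj cls_conj 1 hc, cnt_of_isConj cls_conj 3 hc,
      cnt_eq_bcnt_of_inv 1 inv_closed1, cnt_eq_bcnt_of_inv 3 inv_closed3,
      bcnt_eq_aT (i := 1) (by decide) j
        (by simp only [List.mem_cons, List.not_mem_nil, or_false] at hj
            rcases hj with rfl | rfl | rfl | rfl | rfl <;> decide) g h1 1 (by norm_num),
      bcnt_eq_aT (i := 3) (by decide) j
        (by simp only [List.mem_cons, List.not_mem_nil, or_false] at hj
            rcases hj with rfl | rfl | rfl | rfl | rfl <;> decide) g h3 3 (by norm_num)]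
    exact table2 j hj
  rcases odd_conj hx with h | h | h | h | h
  · exact key 1 C5.g (by decide) C5.hcode C5.hcode h
  · exact key 2 C7.g (by decide) C7.hcode C7.hcode h
  · exact key 3 C8.g (by decide) C8.hcode C8.hcode h
  · exact key 4 C10.g (by decide) C10.hcode C10.hcode h
  · exact key 5 C11.g (by decide) C11.hcode C11.hcode h

theorem hpar12 (g : GG) :
    (2 : ℤ) ∣ ((cnt cls 1 g : ℤ) + (cnt cls 3 g : ℤ)) - (if g = 1 then 1 else 0) := by
  by_cases hg : cls g ∈ ev
  · have h1 := hpar 1 (by decide) (by decide) g hg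
    have h3 := hpar 3 (by decide) (by decide) g hg
    have c1 : cpar 1 = 1 := by decide
    have c3 : cpar 3 = 0 := by decide
    rw [c1] at h1
    rw [c3] at h3
    by_cases hg1 : g = 1
    · rw [if_pos hg1] at h1 h3 ⊢
      omega
    · rw [if_neg hg1] at h1 h3 ⊢
      omega
  · have h := cnt_odd hg
    have hg1 : g ≠ 1 := by
      rintro rfl
      apply hg
      rw [cls_one]
      decide
    rw [if_neg hg1]
    omega

end Cfsg.Agent.Lib.Helper4.M22B
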