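import Cfsg.Agent.Lib.Helper1.PermCode2

/-!
# M22: a single 2-block — the computational engine on permutation codes

Permutations of the 24 points are coded by natural numbers (digits in base 32, as in
`Helper1.PermCode`).  This file defines, on codes: conjugation by the three generators, the
depth-first expansion of a conjugation tree from a packed stream of tokens, a cheap classifier of
the conjugacy classes of `M₂₂`, and a kernel-friendly merge sort used to check that lists of keys
have no repetition.
-/

set_option autoImplicit false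

namespace Cfsg.Agent.Lib.Helper4.M22B

open Cfsg.Agent.Lib.Helper1.PermCode Cfsg.Agent.Lib.Helper1.MatCode

def gP : ℕ := 983435072843990828779021698901151808
def gH : ℕ := 974380510768821363662145534143076928
def gV : ℕ := 984444188461805708752323088099022880
def gPi : ℕ := 970567384681219435340729552166356352
def gHi : ℕ := 980275914351787324191492553553580224
def gVi : ℕ := 984447756380300809835322717071984672

/-- the 77 hexads: masks and point lists -/
def HexLP : List (ℕ × List ℕ) := [(3188, [2, 4, 5, 6, 10, 11]), (9546, [1, 3, 6, 8, 10, 13]), (24072, [3, 9, 10, 11, 12, 14]), (33202, [1, 4, 5, 7, 8, 15]), (43148, [2, 3, 7, 11, 13, 15]), (83332, [2, 7, 8, 10, 14, 16]), (111360, [8, 9, 12, 13, 15, 16]), (116802, [1, 6, 11, 14, 15, 16]), (135762, [1, 4, 6, 9, 12, 17]), (147502, [1, 2, 3, 5, 14, 17]), (157968, [4, 8, 11, 13, 14, 17]), (205024, [5, 6, 7, 13, 16, 17]), (230424, [3, 4, 10, 15, 16, 17]), (268550, [1, 2, 8, 11, 12, 18]), (274488, [3, 4, 5, 12, 13, 18]), (287300, [2, 6, 9, 13, 14, 18]), (300224, [6, 7, 10,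 12, 15, 18]), (328330, [1, 3, 7, 9, 16, 18]), (395040, [5, 8, 9, 10, 17, 18]), (534160, [4, 7, 9, 10, 13, 19]), (557672, [3, 5, 6, 9, 15, 19]), (577556, [2, 4, 12, 14, 15, 19]), (594978, [1, 5, 10, 12, 16, 19]), (659848, [3, 7, 8, 12, 17, 19]), (723460, [2, 9, 11, 16, 17, 19]), (805024, [5, 7, 11, 14, 18, 19]), (852304, [4, 6, 8, 16, 18, 19]), (958466, [1, 13, 15, 17, 18, 19]), (1051584, [6, 7, 8, 9, 11, 20]), (1077378, [1, 7, 12, 13, 14, 20]), (1082886, [1, 2, 9, 10, 15, 20]), (1118284, [2, 3, 6, 12, 16, 20]), (1131056, [4, 5, 9, 14, 16, 20]), (1218592, [5, 11, 12, 15, 17, 20]), (1360136, [3, 8, 14, 15, 18, 20]), (1387520, [10, 11, 13, 16, 18, 20]), (1441940, [2, 4, 7, 17, 18, 20]), (1574938, [1, 3, 4, 11, 19, 20]), (1581348, [2, 5, 8, 13, 19, 20]), (1721408, [6, 10, 14, 17, 19, 20]), (2097948, [2, 3, 4, 8, 9, 21]), (2107938, [1, 5, 9, 11, 13, 21]), (2117984, [5, 6, 8, 12, 14, 21]), (2168976, [4, 7, 11, 12, 16, 21]), (2241540, [2, 10, 12, 13, 17, 21]), (2278016, [7, 9, 14, 15, 17, 21]), (2376722, [1, 4, 10, 14, 18, 21]),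 (2457636, [2, 5, 15, 16, 18, 21]), (2492488, [3, 6, 11, 17, 18, 21]), (2621638, [1, 2, 6, 7, 19, 21]), (2657536, [8, 10, 11, 15, 19, 21]), (2711560, [3, 13, 14, 16, 19, 21]), (3146920, [3, 5, 7, 10, 20, 21]), (3186768, [4, 6, 13, 15, 20, 21]), (3342594, [1, 8, 16, 17, 20, 21]), (3936768, [9, 12, 18, 19, 20, 21]), (4199076, [2, 5, 7, 9, 12, 22]), (4210904, [3, 4, 6, 7, 14, 22]), (4252704, [5, 10, 13, 14, 15, 22]), (4262184, [3, 5, 8, 11, 16, 22]), (4268054, [1, 2, 4, 13, 16, 22]), (4328578, [1, 7, 10, 11, 17, 22]), (4358468, [2, 6, 8, 15, 17, 22]), (4491792, [4, 9, 11, 15, 18, 22]), (4673536, [12, 14, 16, 17, 18, 22]), (4732992, [6, 11, 12, 13, 19, 22]), (4735746, [1, 8, 9, 14, 19, 22]), (4981772, [2, 3, 10, 18, 19, 22]), (5248272, [4, 8, 10, 12, 20, 22]), (5382664, [3, 9, 13, 17, 20, 22]), (5505122, [1, 5, 6, 18, 20, 22]), (5865600, [7, 15, 16, 19, 20, 22]), (6328330, [1, 3, 12, 15, 21, 22]), (6358592, [6, 9, 10, 16, 21, 22]), (6562176, [7, 8, 13, 18, 21, 22]), (6946864, [4, 5, 17, 19, 21, 22]), (7358468, [2, 11, 14, 20,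 21, 22])]

/-- the unrolled count of fixed digits -/
def fixN (c : ℕ) : ℕ := Nat.add (Nat.add (Nat.add (Nat.add (Nat.add (Nat.add (Nat.add (Nat.add (Nat.add (Nat.add (Nat.add (Nat.add (Nat.add (Nat.add (Nat.add (Nat.add (Nat.add (Nat.add (Nat.add (Nat.add (Nat.add (Nat.add (Nat.add (Nat.add (0) (bif Nat.beq (Nat.land (Nat.shiftRight c (Nat.mul 5 0)) 31) 0 then 1 else 0)) (bif Nat.beq (Nat.land (Nat.shiftRight c (Nat.mul 5 1)) 31) 1 then 1 else 0)) (bif Nat.beq (Nat.land (Nat.shiftRight c (Nat.mul 5 2)) 31) 2 then 1 else 0)) (bif Nat.beq (Nat.land (Nat.shiftRight c (Nat.mul 5 3)) 31) 3 then 1 else 0)) (bif Nat.beq (Nat.land (Nat.shiftRight c (Nat.mul 5 4)) 31) 4 then 1 else 0)) (bif Nat.beq (Nat.land (Nat.shiftRight c (Nat.mul 5 5)) 31) 5 then 1 else 0)) (bif Nat.beq (Nat.land (Nat.shiftRight c (Nat.mul 5 6)) 31) 6 then 1 else 0)) (bif Nat.beq (Nat.land (Nat.shiftRight c (Nat.mul 5 7)) 31) 7 then 1 else 0)) (bif Nat.beq (Nat.land (Nat.shiftRight c (Nat.mul 5 8)) 31) 8 then 1 else 0)) (bif Nat.beq (Nat.land (Nat.shiftRight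 c (Nat.mul 5 9)) 31) 9 then 1 else 0)) (bif Nat.beq (Nat.land (Nat.shiftRight c (Nat.mul 5 10)) 31) 10 then 1 else 0)) (bif Nat.beq (Nat.land (Nat.shiftRight c (Nat.mul 5 11)) 31) 11 then 1 else 0)) (bif Nat.beq (Nat.land (Nat.shiftRight c (Nat.mul 5 12)) 31) 12 then 1 else 0)) (bif Nat.beq (Nat.land (Nat.shiftRight c (Nat.mul 5 13)) 31) 13 then 1 else 0)) (bif Nat.beq (Nat.land (Nat.shiftRight c (Nat.mul 5 14)) 31) 14 then 1 else 0)) (bif Nat.beq (Nat.land (Nat.shiftRight c (Nat.mul 5 15)) 31) 15 then 1 else 0)) (bif Nat.beq (Nat.land (Nat.shiftRight c (Nat.mul 5 16)) 31) 16 then 1 else 0)) (bif Nat.beq (Nat.land (Nat.shiftRight c (Nat.mul 5 17)) 31) 17 then 1 else 0)) (bif Nat.beq (Nat.land (Nat.shiftRight c (Nat.mul 5 18)) 31) 18 then 1 else 0)) (bif Nat.beq (Nat.land (Nat.shiftRight c (Nat.mul 5 19)) 31) 19 then 1 else 0)) (bif Nat.beq (Nat.land (Nat.shiftRight c (Nat.mul 5 20)) 31) 20 then 1 else 0)) (bif Nat.beq (Nat.land (Nat.shiftRight c (Nat.mul 5 21)) 31) 21 then 1 else 0)) (bif Nat.beq (Nat.land (Nat.shiftRight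 c (Nat.mul 5 22)) 31) 22 then 1 else 0)) (bif Nat.beq (Nat.land (Nat.shiftRight c (Nat.mul 5 23)) 31) 23 then 1 else 0)

/-- the code of a generator -/
def gc (s : ℕ) : ℕ := bif Nat.beq s 0 then gP else bif Nat.beq s 1 then gH else gV

/-- the code of the inverse of a generator -/
def gci (s : ℕ) : ℕ := bif Nat.beq s 0 then gPi else bif Nat.beq s 1 then gHi else gVi

/-- conjugation by a generator, on codes -/
def conjG (s x : ℕ) : ℕ := pmu2 (pmu2 (gci s) x) (gc s)

/-- walk down a word from the top of the stack, pushing the successive conjugates -/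
def walk : List ℕ → List ℕ → List ℕ
  | [], st => st
  | _ :: _, [] => []
  | s :: w, x :: st => walk w (conjG s x :: x :: st)

/-- depth-first expansion: the token `3` pops the stack, a token `s < 3` pushes (and emits) the
conjugate by the generator `s` of the top of the stack; tokens are the base-4 digits of `T` -/
def expand : ℕ → ℕ → List ℕ → List ℕ
  | 0, _, _ => []
  | _ + 1, _, [] => []
  | n + 1, T, x :: st =>
    bif Nat.beq (Nat.land T 3) 3 then expand n (Nat.shiftRight T 2) st
    else conjG (Nat.land T 3) x ::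
      expand n (Nat.shiftRight T 2) (conjG (Nat.land T 3) x :: x :: st)

/-- the fused fold over the expansion -/
def scan {α : Type} (f : ℕ → α → α) : ℕ → ℕ → List ℕ → α → α
  | 0, _, _, a => a
  | _ + 1, _, [], a => a
  | n + 1, T, x :: st, a =>
    bif Nat.beq (Nat.land T 3) 3 then scan f n (Nat.shiftRight T 2) st a
    else scan f n (Nat.shiftRight T 2) (conjG (Nat.land T 3) x :: x :: st)
      (f (conjG (Nat.land T 3) x) a)

theorem scan_eq {α : Type} (f : ℕ → α → α) (n T : ℕ) (st : List ℕ) (a : α) :
    scan f n T st a = (expand n T st).foldl (fun a y => f y a) a := by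
  induction n generalizing T st a with
  | zero => rfl
  | succ n ih =>
    cases st with
    | nil => rfl
    | cons x st =>
      rw [scan, expand]
      cases h : Nat.beq (Nat.land T 3) 3
      · simp only [cond_false, List.foldl_cons]
        exact ih _ _ _
      · simp only [cond_true]
        exact ih _ _ _

theorem walk_forall (Q : ℕ → Prop) (hQ : ∀ s x, Q x → Q (conjG s x)) (w st : List ℕ)
    (h : ∀ x ∈ st, Q x) : ∀ x ∈ walk w st, Q x := by
  induction w generalizing st with
  | nil => exact h
  | cons s w ih =>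
    cases st with
    | nil => intro x hx; simp [walk] at hx
    | cons a st =>
      rw [walk]
      apply ih
      intro x hx
      rcases List.mem_cons.1 hx with rfl | hx
      · exact hQ _ _ (h a (List.mem_cons_self))
      · exact h x hx

theorem expand_forall (Q : ℕ → Prop) (hQ : ∀ s x, Q x → Q (conjG s x)) (n T : ℕ) (st : List ℕ)
    (h : ∀ x ∈ st, Q x) : ∀ y ∈ expand n T st, Q y := by
  induction n generalizing T st with
  | zero => intro y hy; simp [expand] at hy
  | succ n ih =>
    cases st with
    | nil => intro y hy; simp [expand] at hy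
    | cons a st =>
      rw [expand]
      cases hb : Nat.beq (Nat.land T 3) 3
      · simp only [cond_false]
        have hqa : Q (conjG (Nat.land T 3) a) := hQ _ _ (h a (List.mem_cons_self))
        intro y hy
        rcases List.mem_cons.1 hy with rfl | hy
        · exact hqa
        · refine ih _ _ ?_ y hy
          intro x hx
          rcases List.mem_cons.1 hx with rfl | hx
          · exact hqa
          · exact h x hx
      · simp only [cond_true]
        refine ih _ _ ?_
        intro x hx
        exact h x (List.mem_cons_of_mem _ hx)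

/-! ### The classifier -/

/-- the recursive form of `fixN` -/
def fixR (c : ℕ) : ℕ → ℕ
  | 0 => 0
  | i + 1 => Nat.add (fixR c i)
      (bif Nat.beq (Nat.land (Nat.shiftRight c (Nat.mul 5 i)) 31) i then 1 else 0)

theorem fixN_eq (c : ℕ) : fixN c = fixR c 24 := rfl

/-- the hexad with mask `h.1` and points `h.2` is mapped into itself -/
def hexOK (c : ℕ) (h : ℕ × List ℕ) : Bool :=
  h.2.all (fun p => Nat.testBit h.1 (Nat.land (Nat.shiftRight c (Nat.mul 5 p)) 31))

/-- the number of hexads mapped into themselves -/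
def hexN (c : ℕ) : ℕ := HexLP.countP (hexOK c)

/-- the decision tree of the classifier -/
def clsT (f1 f2 h : ℕ) : ℕ :=
  bif Nat.beq f1 24 then 0 else bif Nat.beq f1 8 then 1 else bif Nat.beq f1 6 then 2 else
  bif Nat.beq f1 3 then 7 else
  bif Nat.beq f1 4 then (bif Nat.beq f2 8 then (bif Nat.beq h 5 then 3 else 4) else 5)
  else (bif Nat.beq f2 6 then 6 else bif Nat.beq f2 4 then 8 else 9)

/-- the classifier on codes: `0,…,9` for `1A, 2A, 3A, 4A, 4B, 5A, 6A, 7AB, 8A, 11AB` -/
def clsC (c : ℕ) : ℕ := clsT (fixN c) (fixN (pmu2 c c)) (hexN c)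

/-! ### Keys and their packing -/

/-- the key of a code: the digits `1,…,5` -/
def key (y : ℕ) : ℕ := Nat.land (Nat.shiftRight y 5) 33554431

/-- push a key -/
def stepK (y K : ℕ) : ℕ := Nat.lor (Nat.shiftLeft K 25) (key y)

/-- unpack the keys (in reverse order) -/
def unpackK : ℕ → ℕ → List ℕ
  | 0, _ => []
  | n + 1, K => bif Nat.ble K 1 then [] else
      Nat.land K 33554431 :: unpackK n (Nat.shiftRight K 25)

theorem key_lt (y : ℕ) : key y < 2 ^ 25 := by
  unfold key
  show (y >>> 5) &&& 33554431 < 2 ^ 25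
  have : (33554431 : ℕ) = 2 ^ 25 - 1 := by norm_num
  rw [this, Nat.and_two_pow_sub_one_eq_mod]
  exact Nat.mod_lt _ (by norm_num)

theorem stepK_eq (y K : ℕ) : stepK y K = K * 2 ^ 25 + key y := by
  unfold stepK
  show K <<< 25 ||| key y = _
  rw [← Nat.shiftLeft_add_eq_or_of_lt (key_lt y), Nat.shiftLeft_eq]

theorem unpackK_pack (l : List ℕ) (K₀ : ℕ) (hK₀ : K₀ = 1) (n : ℕ) (hn : l.length + 1 ≤ n) :
    unpackK n (l.foldl (fun K y => stepK y K) K₀) = (l.map key).reverse := by
  subst hK₀
  induction l using List.reverseRecOn generalizing n with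
  | nil =>
    cases n with
    | zero => simp at hn
    | succ n => rfl
  | append_singleton l y ih =>
    cases n with
    | zero => simp at hn
    | succ n =>
      rw [List.foldl_append, List.foldl_cons, List.foldl_nil, List.map_append, List.reverse_append,
        List.map_cons, List.map_nil, List.reverse_singleton, List.singleton_append]
      set X := l.foldl (fun K y => stepK y K) 1 with hX
      have hXpos : 1 ≤ X := by
        rw [hX]
        clear ih hn hX
        induction l using List.reverseRecOn with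
        | nil => simp
        | append_singleton l z ih2 =>
          rw [List.foldl_append, List.foldl_cons, List.foldl_nil, stepK_eq]
          have : 0 < 2 ^ 25 := by norm_num
          nlinarith
      have hlt := key_lt y
      rw [unpackK, stepK_eq]
      have hge : 2 ^ 25 ≤ X * 2 ^ 25 := Nat.le_mul_of_pos_left _ hXpos
      have h1 : Nat.ble (X * 2 ^ 25 + key y) 1 = false := by
        rw [Bool.eq_false_iff]
        intro h
        have := Nat.le_of_ble_eq_true h
        omega
      have h2 : Nat.land (X * 2 ^ 25 + key y) 33554431 = key y := by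
        show (X * 2 ^ 25 + key y) &&& 33554431 = key y
        have : (33554431 : ℕ) = 2 ^ 25 - 1 := by norm_num
        rw [this, Nat.and_two_pow_sub_one_eq_mod, add_comm, Nat.add_mul_mod_self_right,
          Nat.mod_eq_of_lt hlt]
      have h3 : Nat.shiftRight (X * 2 ^ 25 + key y) 25 = X := by
        show (X * 2 ^ 25 + key y) >>> 25 = X
        rw [Nat.shiftRight_eq_div_pow, add_comm, Nat.add_mul_div_right _ _ (by norm_num),
          Nat.div_eq_of_lt hlt, zero_add]
      rw [h1, h2, h3, cond_false, ih n (by simp at hn ⊢; omega)]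

/-! ### A kernel-friendly merge sort -/

/-- merge with fuel (out of fuel: concatenate) -/
def mergeF : ℕ → List ℕ → List ℕ → List ℕ
  | 0, l, r => l ++ r
  | _ + 1, [], r => r
  | _ + 1, a :: l, [] => a :: l
  | f + 1, a :: l, b :: r =>
    bif Nat.ble a b then a :: mergeF f l (b :: r) else b :: mergeF f (a :: l) r

theorem mergeF_perm (f : ℕ) (l r : List ℕ) : (mergeF f l r).Perm (l ++ r) := by
  induction f generalizing l r with
  | zero => exact List.Perm.refl _
  | succ f ih =>
    cases l with
    | nil => simp [mergeF]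
    | cons a l =>
      cases r with
      | nil => simp [mergeF]
      | cons b r =>
        rw [mergeF]
        cases Nat.ble a b
        · simp only [cond_false]
          have := ih (a :: l) r
          refine (List.Perm.cons b this).trans ?_
          exact (List.perm_middle (l₁ := a :: l) (l₂ := r) (a := b)).symm
        · simp only [cond_true]
          exact List.Perm.cons a (ih l (b :: r))

/-- one pass: merge adjacent runs -/
def passF (f : ℕ) : List (List ℕ) → List (List ℕ)
  | [] => []
  | [a] => [a]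
  | a :: b :: t => mergeF f a b :: passF f t

theorem passF_perm (f : ℕ) (L : List (List ℕ)) : (passF f L).flatten.Perm L.flatten := by
  induction L using passF.induct with
  | case1 => exact List.Perm.refl _
  | case2 a => exact List.Perm.refl _
  | case3 a b t ih =>
    rw [passF, List.flatten_cons, List.flatten_cons, List.flatten_cons, ← List.append_assoc]
    exact List.Perm.append (mergeF_perm f a b) ih

/-- iterate the passes -/
def iterF (f : ℕ) : ℕ → List (List ℕ) → List (List ℕ)
  | 0, L => L
  | n + 1, L => iterF f n (passF f L)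

theorem iterF_perm (f n : ℕ) (L : List (List ℕ)) : (iterF f n L).flatten.Perm L.flatten := by
  induction n generalizing L with
  | zero => exact List.Perm.refl _
  | succ n ih => exact (ih _).trans (passF_perm f L)

/-- merge sort with merge fuel `f` and `n` passes -/
def sortF (f n : ℕ) (l : List ℕ) : List ℕ := (iterF f n (l.map fun a => [a])).flatten

theorem sortF_perm (f n : ℕ) (l : List ℕ) : (sortF f n l).Perm l := by
  unfold sortF
  refine (iterF_perm f n _).trans ?_
  have : (l.map fun a => [a]).flatten = l := by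
    induction l with
    | nil => rfl
    | cons a l ih => simp [ih]
  rw [this]

/-- strictly increasing -/
def strictInc : List ℕ → Bool
  | [] => true
  | [_] => true
  | a :: b :: t => Nat.blt a b && strictInc (b :: t)

theorem nodup_of_strictInc (l : List ℕ) (h : strictInc l = true) : l.Nodup := by
  have hp : l.Pairwise (· < ·) := by
    induction l using strictInc.induct with
    | case1 => exact List.Pairwise.nil
    | case2 a => exact List.pairwise_singleton _ _
    | case3 a b t ih =>
      rw [strictInc, Bool.and_eq_true] at h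
      have hab : a < b := by
        have := h.1
        simp only [Nat.blt_eq] at this
        exact this
      have ht := ih h.2
      rw [List.pairwise_cons] at ht ⊢
      refine ⟨?_, List.pairwise_cons.2 ht⟩
      intro x hx
      rcases List.mem_cons.1 hx with rfl | hx
      · exact hab
      · exact lt_trans hab (ht.1 x hx)
  exact hp.imp (fun h => ne_of_lt h)

theorem nodup_of_sort (f n : ℕ) (l : List ℕ) (h : strictInc (sortF f n l) = true) : l.Nodup :=
  (sortF_perm f n l).nodup_iff.1 (nodup_of_strictInc _ h)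

end Cfsg.Agent.Lib.Helper4.M22B
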