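import Cfsg.Agent.Lib.Helper4.M22B.D1x0

set_option autoImplicit false
set_option maxRecDepth 100000

namespace Cfsg.Agent.Lib.Helper4.M22B

/-- the chunks of class 1 -/
def chunks1 : List Chunk := [D1.ch0]

/-- the scans of the chunks of class 1 -/
def results1 : List (ℕ × List ℕ) := [D1.res0]

theorem hres1 : chunks1.map (scanChunk rep1 R1) = results1 := by
  simp only [chunks1, results1, List.map_cons, List.map_nil, D1.h0]

theorem hfuel1 : ∀ ch ∈ chunks1, ch.2.1 + 1 ≤ 30000 := by decide +kernel

end Cfsg.Agent.Lib.Helper4.M22B
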