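import Cfsg.Agent.Lib.Helper4.M22B.Sem1

/-!
# M22: the classifier is a class function
-/

set_option autoImplicit false

namespace Cfsg.Agent.Lib.Helper4.M22B

open Cfsg Cfsg.Agent.Lib.Helper1 Cfsg.Agent.Lib.Helper1.PermCode Cfsg.Agent.Lib.Helper1.MatCode

/-- transformations of the 24 points -/
abbrev E24 : Type := Function.End (Fin 24)

/-- application -/
def app (f : E24) (i : Fin 24) : Fin 24 := f i

theorem app_mul (f g : E24) (i : Fin 24) : app (f * g) i = app f (app g i) := rfl

theorem app_one (i : Fin 24) : app 1 i = i := rfl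

/-! ### fixed points -/

/-- the number of fixed points -/
def fixF (f : E24) : ℕ := (Finset.univ.filter (fun i : Fin 24 => app f i = i)).card

theorem fixF_le (u v f : E24) (huv : u * v = 1) : fixF f ≤ fixF (v * f * u) := by
  unfold fixF
  have huv' : ∀ x, app u (app v x) = x := fun x => by
    rw [← app_mul, huv, app_one]
  apply Finset.card_le_card_of_injOn (fun i => app v i)
  · intro i hi
    simp only [Finset.mem_coe, Finset.mem_filter, Finset.mem_univ, true_and] at hi ⊢
    rw [app_mul, app_mul, huv', hi]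
  · intro i _ j _ hij
    have := congrArg (app u) hij
    simp only [huv'] at this
    exact this

theorem fixF_conj (u v f : E24) (huv : u * v = 1) (hvu : v * u = 1) :
    fixF (v * f * u) = fixF f := by
  apply le_antisymm
  · have := fixF_le v u (v * f * u) hvu
    have e : u * (v * f * u) * v = f := by
      calc u * (v * f * u) * v = (u * v) * f * (u * v) := by simp only [mul_assoc]
        _ = f := by rw [huv, one_mul, mul_one]
    rw [e] at this
    exact this
  · exact fixF_le u v f huv

theorem fixR_eq_sum (c n : ℕ) :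
    fixR c n = ∑ i ∈ Finset.range n, (if pd c i = i then 1 else 0) := by
  induction n with
  | zero => rfl
  | succ n ih =>
    rw [fixR, Finset.sum_range_succ, ← ih, prim_dig]
    show fixR c n + _ = _
    congr 1
    by_cases h : pd c n = n
    · rw [if_pos h, h]
      simp
    · rw [if_neg h]
      have : Nat.beq (pd c n) n = false := by
        rw [Bool.eq_false_iff]
        intro hb
        exact h (Nat.eq_of_beq_eq_true hb)
      rw [this]
      rfl

theorem fixF_PD {c : ℕ} (hc : PCanon c) : fixF (PD c) = fixN c := by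
  rw [fixN_eq, fixR_eq_sum]
  unfold fixF
  rw [Finset.card_filter]
  rw [← Fin.sum_univ_eq_sum_range (fun i => if pd c i = i then 1 else 0) 24]
  refine Finset.sum_congr rfl fun i _ => ?_
  have h1 : (app (PD c) i = i) ↔ pd c i = i := by
    rw [Fin.ext_iff]
    show pd c i % 24 = i ↔ _
    rw [Nat.mod_eq_of_lt (hc.2 i i.2)]
  rw [if_congr h1 rfl rfl]

/-! ### hexads -/

/-- the masks of the hexads -/
def HexM : List ℕ := HexLP.map Prod.fst

/-- the mask is mapped into itself -/
def stabF (f : E24) (m : ℕ) : Prop :=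
  ∀ i : Fin 24, m.testBit i = true → m.testBit (app f i) = true

instance (f : E24) (m : ℕ) : Decidable (stabF f m) := by unfold stabF; infer_instance

/-- the number of hexads mapped into themselves -/
def hexF (f : E24) : ℕ := HexM.countP (fun m => decide (stabF f m))

/-- pulling back along `u` permutes the hexads -/
def HexRel (u : E24) : Prop :=
  ∀ m ∈ HexM, ∃ m' ∈ HexM, ∀ j : Fin 24, m'.testBit j = m.testBit (app u j)

theorem HexM_nodup : HexM.Nodup := by decide +kernel

theorem HexM_lt : ∀ m ∈ HexM, m < 2 ^ 24 := by decide +kernel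

theorem eq_of_testBit_fin {a b : ℕ} (ha : a < 2 ^ 24) (hb : b < 2 ^ 24)
    (h : ∀ i : Fin 24, a.testBit i = b.testBit i) : a = b := by
  apply Nat.eq_of_testBit_eq
  intro i
  by_cases hi : i < 24
  · exact h ⟨i, hi⟩
  · have h24 : 2 ^ 24 ≤ 2 ^ i := Nat.pow_le_pow_right (by norm_num) (by omega)
    rw [Nat.testBit_eq_false_of_lt (lt_of_lt_of_le ha h24),
      Nat.testBit_eq_false_of_lt (lt_of_lt_of_le hb h24)]

theorem hexF_le (u v f : E24) (huv : u * v = 1) (hu : HexRel u) :
    hexF f ≤ hexF (v * f * u) := by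
  classical
  have huv' : ∀ x, app u (app v x) = x := fun x => by
    rw [← app_mul, huv, app_one]
  unfold hexF
  rw [List.countP_eq_length_filter, List.countP_eq_length_filter]
  have hnd1 := HexM_nodup.filter (fun m => decide (stabF f m))
  have hnd2 := HexM_nodup.filter (fun m => decide (stabF (v * f * u) m))
  rw [← List.toFinset_card_of_nodup hnd1, ← List.toFinset_card_of_nodup hnd2]
  choose! τ hτ using hu
  apply Finset.card_le_card_of_injOn τ
  · intro m hm
    simp only [Finset.mem_coe, List.mem_toFinset, List.mem_filter, decide_eq_true_eq] at hm ⊢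
    obtain ⟨hm1, hm2⟩ := hm
    refine ⟨(hτ m hm1).1, ?_⟩
    intro i hi
    rw [(hτ m hm1).2] at hi ⊢
    rw [app_mul, app_mul, huv']
    exact hm2 _ hi
  · intro m1 hm1 m2 hm2 h12
    simp only [Finset.mem_coe, List.mem_toFinset, List.mem_filter, decide_eq_true_eq] at hm1 hm2
    apply eq_of_testBit_fin (HexM_lt m1 hm1.1) (HexM_lt m2 hm2.1)
    intro i
    have h1 := (hτ m1 hm1.1).2 (app v i)
    have h2 := (hτ m2 hm2.1).2 (app v i)
    rw [huv'] at h1 h2
    rw [← h1, ← h2, h12]

theorem hexF_conj (u v f : E24) (huv : u * v = 1) (hvu : v * u = 1) (hu : HexRel u)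
    (hv : HexRel v) : hexF (v * f * u) = hexF f := by
  apply le_antisymm
  · have := hexF_le v u (v * f * u) hvu hv
    have e : u * (v * f * u) * v = f := by
      calc u * (v * f * u) * v = (u * v) * f * (u * v) := by simp only [mul_assoc]
        _ = f := by rw [huv, one_mul, mul_one]
    rw [e] at this
    exact this
  · exact hexF_le u v f huv hu

theorem HexRel.one : HexRel 1 := fun m hm => ⟨m, hm, fun _ => rfl⟩

theorem HexRel.mul {u₁ u₂ : E24} (h1 : HexRel u₁) (h2 : HexRel u₂) : HexRel (u₁ * u₂) := by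
  intro m hm
  obtain ⟨m', hm', e'⟩ := h1 m hm
  obtain ⟨m'', hm'', e''⟩ := h2 m' hm'
  refine ⟨m'', hm'', fun j => ?_⟩
  rw [e'', e', app_mul]

/-- the boolean test of `HexRel` for a code -/
def hexRelB (c : ℕ) : Bool :=
  HexM.all fun m => HexM.any fun m' =>
    (List.range 24).all fun j => m'.testBit j == m.testBit (pd c j % 24)

theorem hexRel_of_B {c : ℕ} (h : hexRelB c = true) : HexRel (PD c) := by
  intro m hm
  unfold hexRelB at h
  rw [List.all_eq_true] at h
  have h1 := h m hm
  rw [List.any_eq_true] at h1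
  obtain ⟨m', hm', h2⟩ := h1
  refine ⟨m', hm', fun j => ?_⟩
  rw [List.all_eq_true] at h2
  have h3 := h2 j (List.mem_range.2 j.2)
  rw [beq_iff_eq] at h3
  exact h3

theorem hexRel_gens : hexRelB gP = true ∧ hexRelB gH = true ∧ hexRelB gV = true := by
  decide +kernel

open Cfsg.Agent.Lib.Helper1.M22O (gp gh gv gen) in
theorem hexRel_all (h : GG) : HexRel (Φ h) := by
  have hg : h ∈ Subgroup.closure ({gp, gh, gv} : Set GG) := by rw [gen]; trivial
  induction hg using Subgroup.closure_induction with
  | mem x hx =>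
    rcases hx with rfl | rfl | rfl
    · rw [← isCode_gP.2]; exact hexRel_of_B hexRel_gens.1
    · rw [← isCode_gH.2]; exact hexRel_of_B hexRel_gens.2.1
    · rw [← isCode_gV.2]; exact hexRel_of_B hexRel_gens.2.2
  | one => rw [map_one]; exact HexRel.one
  | mul x y _ _ hx hy => rw [map_mul]; exact hx.mul hy
  | inv x _ hx =>
    have h1 : x⁻¹ = x ^ (orderOf x - 1) := by
      have hpos : 0 < orderOf x := orderOf_pos x
      apply inv_eq_of_mul_eq_one_right
      rw [← pow_succ', Nat.sub_add_cancel hpos, pow_orderOf_eq_one]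
    rw [h1]
    generalize orderOf x - 1 = k
    induction k with
    | zero => rw [pow_zero, map_one]; exact HexRel.one
    | succ k ih => rw [pow_succ, map_mul]; exact ih.mul hx

/-! ### the class function -/

/-- the semantic classifier -/
def clsF (f : E24) : ℕ := clsT (fixF f) (fixF (f * f)) (hexF f)

/-- the type of a group element -/
def cls (g : GG) : ℕ := clsF (Φ g)

theorem cls_conj (x h : GG) : cls (h * x * h⁻¹) = cls x := by
  unfold cls clsF
  have e : Φ (h * x * h⁻¹) = Φ h * Φ x * Φ h⁻¹ := by rw [map_mul, map_mul]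
  have huv : Φ h⁻¹ * Φ h = 1 := by rw [← map_mul, inv_mul_cancel, map_one]
  have hvu : Φ h * Φ h⁻¹ = 1 := by rw [← map_mul, mul_inv_cancel, map_one]
  have e2 : Φ h * Φ x * Φ h⁻¹ * (Φ h * Φ x * Φ h⁻¹) = Φ h * (Φ x * Φ x) * Φ h⁻¹ := by
    calc Φ h * Φ x * Φ h⁻¹ * (Φ h * Φ x * Φ h⁻¹)
        = Φ h * Φ x * (Φ h⁻¹ * Φ h) * Φ x * Φ h⁻¹ := by simp only [mul_assoc]
      _ = Φ h * (Φ x * Φ x) * Φ h⁻¹ := by rw [huv, mul_one]; simp only [mul_assoc]
  rw [e, e2, fixF_conj _ _ _ huv hvu, fixF_conj _ _ _ huv hvu,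
    hexF_conj _ _ _ huv hvu (hexRel_all _) (hexRel_all _)]

/-! ### the classifier on codes -/

theorem HexLP_ok : ∀ h ∈ HexLP, (∀ p ∈ h.2, p < 24) ∧
    ∀ i : Fin 24, (h.1.testBit i = true ↔ (i : ℕ) ∈ h.2) := by decide +kernel

theorem hexF_PD {c : ℕ} (hc : PCanon c) : hexF (PD c) = hexN c := by
  unfold hexF hexN HexM
  rw [List.countP_map]
  apply List.countP_congr
  intro h hh
  obtain ⟨hlt, hbit⟩ := HexLP_ok h hh
  simp only [Function.comp_apply, decide_eq_true_eq]
  unfold hexOK stabF
  rw [List.all_eq_true]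
  constructor
  · intro hs p hp
    rw [prim_dig]
    have := hs ⟨p, hlt p hp⟩ ((hbit ⟨p, hlt p hp⟩).2 hp)
    have e : ((app (PD c) ⟨p, hlt p hp⟩ : Fin 24) : ℕ) = pd c p := by
      show pd c p % 24 = pd c p
      exact Nat.mod_eq_of_lt (hc.2 p (hlt p hp))
    rw [e] at this
    exact this
  · intro hs i hi
    have := hs i ((hbit i).1 hi)
    rw [prim_dig] at this
    have e : ((app (PD c) i : Fin 24) : ℕ) = pd c i := by
      show pd c i % 24 = pd c i
      exact Nat.mod_eq_of_lt (hc.2 i i.2)
    rw [e]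
    exact this

theorem clsF_PD {c : ℕ} (hc : PCanon c) : clsF (PD c) = clsC c := by
  unfold clsF clsC
  rw [fixF_PD hc, hexF_PD hc, ← PD_pmu2, fixF_PD (canon_pmu2 c c)]

theorem cls_of_isCode {c : ℕ} {g : GG} (h : IsCode c g) : cls g = clsC c := by
  unfold cls
  rw [← h.2, clsF_PD h.1]

theorem cls_eq (g : GG) : cls g = clsC (cd g) := cls_of_isCode (isCode_cd g)

end Cfsg.Agent.Lib.Helper4.M22B
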