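import Cfsg.Agent.Lib.Helper4.M22B.Sem2
import Cfsg.Agent.Lib.Helper4.M22B.Cert

/-!
# M22: from lists of codes to sets of group elements
-/

set_option autoImplicit false

namespace Cfsg.Agent.Lib.Helper4.M22B

open Cfsg Cfsg.Agent.Lib.Helper1 Cfsg.Agent.Lib.Helper1.PermCode Cfsg.Agent.Lib.Helper1.MatCode

noncomputable instance instFintypeGG : Fintype GG := Fintype.ofFinite _

/-- every code in the list is the code of a group element -/
def Valid (L : List ℕ) : Prop := ∀ c ∈ L, ∃ g : GG, IsCode c g

theorem Valid.append {L₁ L₂ : List ℕ} (h₁ : Valid L₁) (h₂ : Valid L₂) : Valid (L₁ ++ L₂) := by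
  intro c hc
  rcases List.mem_append.1 hc with h | h
  · exact h₁ c h
  · exact h₂ c h

theorem card_filter_cd (L : List ℕ) (hL : L.Nodup) (hv : Valid L) (P : ℕ → Bool) :
    (Finset.univ.filter (fun g : GG => cd g ∈ L ∧ P (cd g) = true)).card = L.countP P := by
  classical
  rw [List.countP_eq_length_filter, ← List.toFinset_card_of_nodup (hL.filter _),
    ← Finset.card_image_of_injective _ cd_injective]
  congr 1
  ext c
  simp only [Finset.mem_image, Finset.mem_filter, Finset.mem_univ, true_and, List.mem_toFinset,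
    List.mem_filter]
  constructor
  · rintro ⟨g, ⟨h1, h2⟩, rfl⟩
    exact ⟨h1, h2⟩
  · rintro ⟨h1, h2⟩
    obtain ⟨g, hg⟩ := hv c h1
    have := cd_eq hg
    exact ⟨g, ⟨by rw [this]; exact h1, by rw [this]; exact h2⟩, this⟩

theorem card_cd_mem (L : List ℕ) (hL : L.Nodup) (hv : Valid L) :
    (Finset.univ.filter (fun g : GG => cd g ∈ L)).card = L.length := by
  have := card_filter_cd L hL hv (fun _ => true)
  simp only [and_true] at this
  rw [this, List.countP_eq_length_filter]
  simp

/-- a valid duplicate-free list of `443520` codes contains the codes of all group elements -/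
theorem cd_mem_of_length (L : List ℕ) (hL : L.Nodup) (hv : Valid L) (hlen : L.length = 443520)
    (g : GG) : cd g ∈ L := by
  classical
  have h1 := card_cd_mem L hL hv
  have h2 : Fintype.card GG = 443520 := by
    rw [← Nat.card_eq_fintype_card]; exact card_M22
  have h3 : Finset.univ.filter (fun g : GG => cd g ∈ L) = Finset.univ := by
    apply Finset.eq_univ_of_card
    rw [h1, hlen, h2]
  have : g ∈ Finset.univ.filter (fun g : GG => cd g ∈ L) := by rw [h3]; exact Finset.mem_univ _
  exact (Finset.mem_filter.1 this).2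

/-- the codes in a class list are codes of conjugates of the representative -/
theorem DL_conj {rep : ℕ} {g₀ : GG} (h₀ : IsCode rep g₀) (chunks : List Chunk) :
    ∀ c ∈ DL rep chunks, ∃ g : GG, IsCode c g ∧ IsConj g₀ g := by
  have hQ : ∀ s x, (∃ g : GG, IsCode x g ∧ IsConj g₀ g) →
      ∃ g : GG, IsCode (conjG s x) g ∧ IsConj g₀ g := by
    rintro s x ⟨g, hg, hc⟩
    refine ⟨(gel s)⁻¹ * g * gel s, hg.conjG s, hc.trans ?_⟩
    rw [isConj_iff]
    exact ⟨(gel s)⁻¹, by rw [inv_inv]⟩
  intro c hc
  unfold DL at hc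
  rcases List.mem_cons.1 hc with rfl | hc
  · exact ⟨g₀, h₀, IsConj.refl _⟩
  · rw [List.mem_flatMap] at hc
    obtain ⟨ch, _, hc⟩ := hc
    unfold expandChunk at hc
    refine expand_forall _ hQ _ _ _ ?_ c hc
    apply walk_forall _ hQ
    intro x hx
    rw [List.mem_singleton] at hx
    subst hx
    exact ⟨g₀, h₀, IsConj.refl _⟩

theorem DL_valid {rep : ℕ} {g₀ : GG} (h₀ : IsCode rep g₀) (chunks : List Chunk) :
    Valid (DL rep chunks) := fun c hc => by
  obtain ⟨g, hg, _⟩ := DL_conj h₀ chunks c hc
  exact ⟨g, hg⟩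

/-- the codes in a class list have the type of the representative -/
theorem DL_cls {rep : ℕ} {g₀ : GG} (h₀ : IsCode rep g₀) (chunks : List Chunk) :
    ∀ c ∈ DL rep chunks, clsC c = clsC rep := by
  intro c hc
  obtain ⟨g, hg, hconj⟩ := DL_conj h₀ chunks c hc
  rw [← cls_of_isCode hg, ← cls_of_isCode h₀]
  obtain ⟨t, ht⟩ := isConj_iff.1 hconj
  rw [← ht, cls_conj]

/-! ### keys -/

/-- the list of keys read off the results of the scans -/
def keyList (rep : ℕ) (results : List (ℕ × List ℕ)) (m : ℕ) : List ℕ :=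
  key rep :: results.flatMap fun r => unpackK m r.1

theorem DL_keys_perm (rep : ℕ) (R : List ℕ) (chunks : List Chunk) (results : List (ℕ × List ℕ))
    (hres : chunks.map (scanChunk rep R) = results) (m : ℕ)
    (hm : ∀ ch ∈ chunks, ch.2.1 + 1 ≤ m) :
    ((DL rep chunks).map key).Perm (keyList rep results m) := by
  unfold DL keyList
  rw [List.map_cons, List.map_flatMap, ← hres, List.flatMap_map]
  apply List.Perm.cons
  apply List.Perm.flatMap_left
  intro ch hch
  rw [scanChunk_eq]
  show List.Perm _ (unpackK m ((expandChunk rep ch).foldl (fun K y => stepK y K) 1))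
  rw [unpackK_pack _ 1 rfl m ?_]
  · exact (List.reverse_perm _).symm
  · have h1 : (expandChunk rep ch).length ≤ ch.2.1 := expand_length_le _ _ _
    have := hm ch hch
    omega

theorem DL_nodup_of_keys (L : List ℕ) (KL : List ℕ) (hp : (L.map key).Perm KL) (f n : ℕ)
    (h : strictInc (sortF f n KL) = true) : L.Nodup :=
  List.Nodup.of_map key (hp.nodup_iff.2 (nodup_of_sort f n KL h))

/-! ### tallies -/

theorem encT_flatMap (ρ : ℕ) (rep : ℕ) (chunks : List Chunk) :
    encT ρ (chunks.flatMap (expandChunk rep)) =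
      (chunks.map fun ch => encT ρ (expandChunk rep ch)).sum := by
  induction chunks with
  | nil => rfl
  | cons ch chunks ih =>
    rw [List.flatMap_cons, encT_append, ih, List.map_cons, List.sum_cons]

theorem DL_tally (rep : ℕ) (R : List ℕ) (chunks : List Chunk) (results : List (ℕ × List ℕ))
    (hres : chunks.map (scanChunk rep R) = results) (j : ℕ) (hj : j < R.length) :
    encT (R.getD j 0) (DL rep chunks) =
      2 ^ (17 * clsC (pmu2 rep (R.getD j 0))) + (results.map fun r => r.2.getD j 0).sum := by
  unfold DL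
  rw [encT_cons, encT_flatMap, ← hres, List.map_map]
  congr 2
  apply List.map_congr_left
  intro ch _
  rw [Function.comp_apply, scanChunk_eq]
  show _ = (R.map fun ρ => encT ρ (expandChunk rep ch)).getD j 0
  have h1 : (R.map fun ρ => encT ρ (expandChunk rep ch)).getD j 0 =
      encT (R.getD j 0) (expandChunk rep ch) := by
    rw [List.getD_eq_getElem (l := R.map fun ρ => encT ρ (expandChunk rep ch)) (d := 0)
      (by simpa using hj), List.getElem_map, List.getD_eq_getElem _ _ hj]
  rw [h1]

end Cfsg.Agent.Lib.Helper4.M22B
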